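import Mathlib

/-!
A combinatorial lemma on natural matrices whose column Gram matrix is the identity plus a constant:
every row without constant entries differs from a constant row in one place, and all row sums agree.
-/

set_option autoImplicit false

namespace CfsgLib.SmallGroups.PrimePlusOne

variable {R I : Type*} [Fintype R] [Fintype I] [DecidableEq I]

theorem deviant {c : I → ℤ} (hc : ∃ i j, c i ≠ c j) :
    2 * ((Fintype.card I : ℤ) - 1) ≤ ∑ i, ∑ j, (c i - c j) ^ 2 ∧
      (∑ i, ∑ j, (c i - c j) ^ 2 = 2 * ((Fintype.card I : ℤ) - 1) →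
        ∃ (i₀ : I) (m δ : ℤ), δ ^ 2 = 1 ∧ ∀ i, c i = m + if i = i₀ then δ else 0) := by
  classical
  obtain ⟨i0, j0, hij⟩ := hc
  have hne : i0 ≠ j0 := fun h => hij (congrArg c h)
  set s : Finset I := (Finset.univ.erase i0).erase j0 with hs
  have hj0 : j0 ∈ Finset.univ.erase i0 := Finset.mem_erase.mpr ⟨hne.symm, Finset.mem_univ _⟩
  have hsplit : ∀ f : I → ℤ, ∑ i, f i = f i0 + f j0 + ∑ i ∈ s, f i := fun f => by
    rw [← Finset.add_sum_erase _ _ (Finset.mem_univ i0), ← Finset.add_sum_erase _ _ hj0, add_assoc]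
  have hscard : (s.card : ℤ) = (Fintype.card I : ℤ) - 2 := by
    have h2 : 2 ≤ Fintype.card I := Fintype.one_lt_card_iff.mpr ⟨i0, j0, hne⟩
    have h1 : s.card = Fintype.card I - 1 - 1 := by
      rw [hs, Finset.card_erase_of_mem hj0, Finset.card_erase_of_mem (Finset.mem_univ _), Finset.card_univ]
    omega
  have hD : ∑ i, ∑ j, (c i - c j) ^ 2 = 2 * (c i0 - c j0) ^ 2 +
      2 * ∑ k ∈ s, ((c i0 - c k) ^ 2 + (c j0 - c k) ^ 2) + ∑ k ∈ s, ∑ l ∈ s, (c k - c l) ^ 2 := by
    rw [hsplit, hsplit fun j => (c i0 - c j) ^ 2, hsplit fun j => (c j0 - c j) ^ 2]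
    simp only [sub_self, zero_pow (two_ne_zero : (2 : ℕ) ≠ 0)]
    rw [Finset.sum_congr rfl fun k _ => hsplit fun j => (c k - c j) ^ 2]
    have hk : ∀ k ∈ s, (c k - c i0) ^ 2 + (c k - c j0) ^ 2 + ∑ l ∈ s, (c k - c l) ^ 2 =
        ((c i0 - c k) ^ 2 + (c j0 - c k) ^ 2) + ∑ l ∈ s, (c k - c l) ^ 2 := fun k _ => by ring
    rw [Finset.sum_congr rfl hk]
    simp only [Finset.sum_add_distrib]
    ring
  have h1 : 1 ≤ (c i0 - c j0) ^ 2 := by
    have : c i0 - c j0 ≠ 0 := sub_ne_zero.mpr hij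
    have := sq_pos_of_ne_zero this
    omega
  have h2 : ∀ k ∈ s, 1 ≤ (c i0 - c k) ^ 2 + (c j0 - c k) ^ 2 := fun k _ => by
    by_cases h : c i0 = c k
    · rw [h] at h1
      have := sq_nonneg (c i0 - c k)
      rw [sub_sq_comm (c j0)]
      omega
    · have := sq_pos_of_ne_zero (sub_ne_zero.mpr h)
      have := sq_nonneg (c j0 - c k)
      omega
  have h2' := Finset.sum_le_sum h2
  rw [Finset.sum_const, nsmul_one, hscard] at h2'
  have h3 : 0 ≤ ∑ k ∈ s, ∑ l ∈ s, (c k - c l) ^ 2 :=
    Finset.sum_nonneg fun _ _ => Finset.sum_nonneg fun _ _ => sq_nonneg _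
  refine ⟨by rw [hD]; omega, fun heq => ?_⟩
  rw [hD] at heq
  have e1 : (c i0 - c j0) ^ 2 = 1 := by omega
  have e2 : ∑ k ∈ s, ((c i0 - c k) ^ 2 + (c j0 - c k) ^ 2) = (Fintype.card I : ℤ) - 2 := by omega
  have e3 : ∑ k ∈ s, ∑ l ∈ s, (c k - c l) ^ 2 = 0 := by omega
  have e2' : ∀ k ∈ s, (c i0 - c k) ^ 2 + (c j0 - c k) ^ 2 = 1 := by
    intro k hk
    have hsum : ∑ l ∈ s, (1 : ℤ) = ∑ l ∈ s, ((c i0 - c l) ^ 2 + (c j0 - c l) ^ 2) := by
      rw [e2, Finset.sum_const, nsmul_one, hscard]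
    exact ((Finset.sum_eq_sum_iff_of_le h2).mp hsum k hk).symm
  have hval : ∀ k ∈ s, c k = c i0 ∨ c k = c j0 := by
    intro k hk
    have h := e2' k hk
    by_contra hcon
    push Not at hcon
    have := sq_pos_of_ne_zero (sub_ne_zero.mpr (Ne.symm hcon.1))
    have := sq_pos_of_ne_zero (sub_ne_zero.mpr (Ne.symm hcon.2))
    omega
  have hconst : ∀ k ∈ s, ∀ l ∈ s, c k = c l := by
    intro k hk l hl
    have h := (Finset.sum_eq_zero_iff_of_nonneg fun i _ => sq_nonneg _).mp
      ((Finset.sum_eq_zero_iff_of_nonneg fun i _ => Finset.sum_nonneg fun j _ => sq_nonneg _).mp e3 k hk) l hl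
    exact sub_eq_zero.mp (pow_eq_zero_iff two_ne_zero |>.mp h)
  have hmem : ∀ k, k ≠ i0 → k ≠ j0 → k ∈ s := fun k a b =>
    Finset.mem_erase.mpr ⟨b, Finset.mem_erase.mpr ⟨a, Finset.mem_univ _⟩⟩
  by_cases hall : ∀ k ∈ s, c k = c j0
  · refine ⟨i0, c j0, c i0 - c j0, e1, fun i => ?_⟩
    split_ifs with h
    · rw [h]; ring
    · by_cases h' : i = j0
      · rw [h', add_zero]
      · rw [hall i (hmem i h h'), add_zero]
  · push Not at hall
    obtain ⟨k, hk, hkne⟩ := hall
    have hki : c k = c i0 := (hval k hk).resolve_right hkne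
    refine ⟨j0, c i0, c j0 - c i0, by rw [sub_sq_comm, e1], fun i => ?_⟩
    split_ifs with h
    · rw [h]; ring
    · by_cases h' : i = i0
      · rw [h', add_zero]
      · rw [hconst i (hmem i h' h) k hk, hki, add_zero]

theorem row_sums (c : R → I → ℕ) (K : ℕ) (hI : 3 ≤ Fintype.card I)
    (hgram : ∀ i j, ∑ r, c r i * c r j = (if i = j then 1 else 0) + K)
    (hnc : ∀ r, ∃ i j, c r i ≠ c r j) :
    Nonempty R ∧ ∀ r, (∑ i, c r i) ^ 2 = 1 + Fintype.card I * K := by
  classical
  set e := Fintype.card I with he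
  have hR : e ≤ Fintype.card R := by
    let M : (I → ℚ) →ₗ[ℚ] (R → ℚ) :=
      { toFun := fun v r => ∑ i, (c r i : ℚ) * v i
        map_add' := fun v w => funext fun r => by simp [mul_add, Finset.sum_add_distrib]
        map_smul' := fun t v => funext fun r => by
          simp [Finset.mul_sum, mul_left_comm] }
    have hM : Function.Injective M := by
      rw [injective_iff_map_eq_zero]
      intro v hv
      have h0 : ∑ r, (M v r) ^ 2 = ∑ i, (v i) ^ 2 + (K : ℚ) * (∑ i, v i) ^ 2 := by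
        calc ∑ r, (M v r) ^ 2 = ∑ r, ∑ i, ∑ j, (c r i : ℚ) * c r j * (v i * v j) := by
              refine Finset.sum_congr rfl fun r _ => ?_
              show (∑ i, (c r i : ℚ) * v i) ^ 2 = _
              rw [sq, Finset.sum_mul_sum]
              exact Finset.sum_congr rfl fun i _ => Finset.sum_congr rfl fun j _ => by ring
          _ = ∑ i, ∑ j, (∑ r, (c r i : ℚ) * c r j) * (v i * v j) := by
              simp only [Finset.sum_mul]
              rw [Finset.sum_comm]
              exact Finset.sum_congr rfl fun i _ => Finset.sum_comm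
          _ = ∑ i, ∑ j, ((if i = j then 1 else 0) + (K : ℚ)) * (v i * v j) := by
              refine Finset.sum_congr rfl fun i _ => Finset.sum_congr rfl fun j _ => ?_
              congr 1
              exact_mod_cast hgram i j
          _ = _ := by
              simp only [add_mul, ite_mul, one_mul, zero_mul, Finset.sum_add_distrib,
                Finset.sum_ite_eq, Finset.mem_univ, if_true, ← Finset.mul_sum, ← Finset.sum_mul, sq]
      rw [hv] at h0
      simp only [Pi.zero_apply, ne_eq, OfNat.ofNat_ne_zero, not_false_eq_true, zero_pow,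
        Finset.sum_const_zero] at h0
      have hnn : 0 ≤ (K : ℚ) * (∑ i, v i) ^ 2 := by positivity
      have hnn' : 0 ≤ ∑ i, (v i) ^ 2 := Finset.sum_nonneg fun _ _ => sq_nonneg _
      have hz : ∑ i, (v i) ^ 2 = 0 := by linarith
      funext i
      exact pow_eq_zero_iff two_ne_zero |>.mp
        ((Finset.sum_eq_zero_iff_of_nonneg fun _ _ => sq_nonneg _).mp hz i (Finset.mem_univ i))
    simpa [he] using LinearMap.finrank_le_finrank_of_injective hM
  haveI hne : Nonempty R := Fintype.card_pos_iff.mp (by omega)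
  refine ⟨hne, ?_⟩
  have hgz : ∀ i j, ∑ r, (c r i : ℤ) * c r j = (if i = j then 1 else 0) + (K : ℤ) := fun i j => by
    exact_mod_cast hgram i j
  have hdiff : ∀ i j, i ≠ j → ∑ r, ((c r i : ℤ) - c r j) ^ 2 = 2 := by
    intro i j hij
    have : ∀ r, ((c r i : ℤ) - c r j) ^ 2 = (c r i : ℤ) * c r i + (c r j : ℤ) * c r j - 2 * ((c r i : ℤ) * c r j) :=
      fun r => by ring
    rw [Finset.sum_congr rfl fun r _ => this r, Finset.sum_sub_distrib, Finset.sum_add_distrib,
      ← Finset.mul_sum, hgz, hgz, hgz, if_pos rfl, if_pos rfl, if_neg hij]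
    ring
  let D : R → ℤ := fun r => ∑ i, ∑ j, ((c r i : ℤ) - c r j) ^ 2
  have hDsum : ∑ r, D r = 2 * (e : ℤ) * ((e : ℤ) - 1) := by
    simp only [D]
    rw [Finset.sum_comm]
    have hi : ∀ i : I, ∑ r, ∑ j, ((c r i : ℤ) - c r j) ^ 2 = 2 * ((e : ℤ) - 1) := by
      intro i
      rw [Finset.sum_comm, ← Finset.add_sum_erase _ _ (Finset.mem_univ i),
        Finset.sum_congr rfl fun j hj => hdiff i j (Finset.mem_erase.mp hj).1.symm]
      simp only [sub_self, ne_eq, OfNat.ofNat_ne_zero, not_false_eq_true, zero_pow,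
        Finset.sum_const_zero, zero_add, Finset.sum_const, Finset.card_erase_of_mem (Finset.mem_univ i),
        Finset.card_univ, nsmul_eq_mul]
      rw [Nat.cast_sub (by omega), ← he]
      push_cast
      ring
    rw [Finset.sum_congr rfl fun i _ => hi i, Finset.sum_const, Finset.card_univ, nsmul_eq_mul, ← he]
    ring
  have hdev := fun r => deviant (c := fun i => (c r i : ℤ)) (by
    obtain ⟨i, j, h⟩ := hnc r
    exact ⟨i, j, by exact_mod_cast h⟩)
  have hRle : ∑ _r : R, 2 * ((e : ℤ) - 1) ≤ ∑ r, D r := Finset.sum_le_sum fun r _ => (hdev r).1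
  rw [hDsum, Finset.sum_const, Finset.card_univ, nsmul_eq_mul] at hRle
  have hRe : Fintype.card R = e := by
    refine le_antisymm ?_ hR
    have h2 : (0 : ℤ) < 2 * ((e : ℤ) - 1) := by omega
    have : (Fintype.card R : ℤ) ≤ e := le_of_mul_le_mul_right (by linarith) h2
    exact_mod_cast this
  have hDeq : ∀ r, D r = 2 * ((e : ℤ) - 1) := by
    intro r
    have hsum : ∑ _r : R, 2 * ((e : ℤ) - 1) = ∑ r, D r := by
      rw [hDsum, Finset.sum_const, Finset.card_univ, nsmul_eq_mul, hRe]; ring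
    exact ((Finset.sum_eq_sum_iff_of_le fun r _ => (hdev r).1).mp hsum r (Finset.mem_univ r)).symm
  choose i₀ m δ hδ hc using fun r => (hdev r).2 (hDeq r)
  let n : I → ℤ := fun i => ∑ r, if i = i₀ r then 1 else 0
  have hn2 : ∀ i j, i ≠ j → n i + n j = 2 := by
    intro i j hij
    rw [← hdiff i j hij]
    simp only [n, ← Finset.sum_add_distrib]
    refine Finset.sum_congr rfl fun r _ => ?_
    rw [hc r i, hc r j]
    by_cases h1 : i = i₀ r
    · rw [if_pos h1, if_pos h1, if_neg (fun h => hij (h1.trans h.symm)),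
        if_neg (fun h => hij (h1.trans h.symm))]
      simp [hδ r]
    · rw [if_neg h1, if_neg h1]
      by_cases h2 : j = i₀ r
      · rw [if_pos h2, if_pos h2]; simp [hδ r]
      · rw [if_neg h2, if_neg h2]; simp
  have hn1 : ∀ i, n i = 1 := by
    intro i
    have hcard : 1 < (Finset.univ.erase i).card := by
      rw [Finset.card_erase_of_mem (Finset.mem_univ i), Finset.card_univ, ← he]; omega
    obtain ⟨j, hj, k, hk, hjk⟩ := Finset.one_lt_card.mp hcard
    have := hn2 i j (Finset.mem_erase.mp hj).1.symm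
    have := hn2 i k (Finset.mem_erase.mp hk).1.symm
    have := hn2 j k hjk
    omega
  have hcard1 : ∀ i, ∃ r₁, ∀ r, i = i₀ r ↔ r = r₁ := by
    intro i
    have h := hn1 i
    simp only [n, Finset.sum_boole] at h
    obtain ⟨r₁, hr₁⟩ := Finset.card_eq_one.mp (by exact_mod_cast h :
      (Finset.univ.filter fun r => i = i₀ r).card = 1)
    refine ⟨r₁, fun r => ?_⟩
    have := Finset.ext_iff.mp hr₁ r
    simpa using this
  let S : R → ℤ := fun r => ∑ i, (c r i : ℤ)
  have hS : ∀ r, δ r * S r = 1 + (e : ℤ) * K - ∑ r', m r' * S r' := by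
    intro r
    obtain ⟨r₁, hr₁⟩ := hcard1 (i₀ r)
    have hr : r = r₁ := (hr₁ r).mp rfl
    have h1 : ∑ r', (c r' (i₀ r) : ℤ) * S r' = 1 + (e : ℤ) * K := by
      simp only [S, Finset.mul_sum]
      rw [Finset.sum_comm, Finset.sum_congr rfl fun j _ => hgz (i₀ r) j, Finset.sum_add_distrib,
        Finset.sum_ite_eq, if_pos (Finset.mem_univ _), Finset.sum_const, Finset.card_univ, nsmul_eq_mul]
    rw [← h1, ← Finset.sum_sub_distrib, Finset.sum_eq_single r]
    · rw [hc r (i₀ r), if_pos rfl]; ring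
    · intro r' _ hne
      rw [hc r' (i₀ r), if_neg (fun h => hne ((hr₁ r').mp h |>.trans hr.symm))]; ring
    · intro h; exact absurd (Finset.mem_univ r) h
  have hsq : ∀ r r', S r ^ 2 = S r' ^ 2 := fun r r' => by
    calc S r ^ 2 = (δ r * S r) ^ 2 := by rw [mul_pow, hδ, one_mul]
      _ = (δ r' * S r') ^ 2 := by rw [hS, hS]
      _ = S r' ^ 2 := by rw [mul_pow, hδ, one_mul]
  have htot : ∑ r, S r ^ 2 = (e : ℤ) * (1 + (e : ℤ) * K) := by
    simp only [S, sq, Finset.sum_mul_sum]
    rw [Finset.sum_comm, Finset.sum_congr rfl fun i _ => Finset.sum_comm,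
      Finset.sum_congr rfl fun i _ => Finset.sum_congr rfl fun j _ => hgz i j]
    simp only [Finset.sum_add_distrib, Finset.sum_ite_eq, Finset.mem_univ, if_true, Finset.sum_const,
      Finset.card_univ, nsmul_eq_mul, ← he]
    ring
  intro r
  rw [Finset.sum_congr rfl fun r' _ => hsq r' r, Finset.sum_const, Finset.card_univ, nsmul_eq_mul,
    hRe] at htot
  have h := mul_left_cancel₀ (by omega : (e : ℤ) ≠ 0) htot
  simp only [S] at h
  exact_mod_cast h

end CfsgLib.SmallGroups.PrimePlusOne
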