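import Cfsg.Agent.Lib.SmallGroups.PrimePlusOne.Setup
import Cfsg.Agent.Lib.SmallGroups.PrimePlusOne.DeviantRows
import Cfsg.Agent.Lib.Char.PermChar
import Cfsg.Agent.Lib.Char.Generalized
import Cfsg.Agent.Lib.Char.Integral
import Mathlib

/-!
A transitive group of order `(p + 1) * p * d` on `p + 1` points whose two-point stabiliser has odd
order `d > 1` and is inverted by a swapping element has at most two nonlinear characters on a point
stabiliser, that is `p - 1 ≤ 2 * d`.
-/

set_option autoImplicit false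

namespace CfsgLib.SmallGroups.PrimePlusOne

open MulAction CfsgLib.Char
open scoped ComplexConjugate

variable {G α : Type*} [Group G] [MulAction G α] [FaithfulSMul G α] {p d : ℕ} [Fact p.Prime]

theorem tr_add (Fr : Frame G α p d) (m n : ZMod p) : Fr.tr (m + n) = Fr.tr m * Fr.tr n :=
  eq_of_smul_eq_smul fun y : α => by
    by_cases hy : y = Fr.a
    · rw [hy, mul_smul, Fr.tr_a, Fr.tr_a, Fr.tr_a]
    · obtain ⟨x, rfl⟩ := Fr.pt_surj y hy
      rw [mul_smul, Fr.tr_pt, Fr.tr_pt, Fr.tr_pt, add_assoc, add_comm n m]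

theorem tr_injective (Fr : Frame G α p d) : Function.Injective Fr.tr := fun m n h => by
  have h1 := congrArg (fun g : G => g • Fr.pt 0) h
  simp only [Fr.tr_pt, zero_add] at h1
  exact Fr.pt_inj h1

/-- The translations. -/
def transGroup (Fr : Frame G α p d) : Subgroup G where
  carrier := Set.range Fr.tr
  one_mem' := ⟨0, by
    have h := tr_add Fr 0 0
    rw [add_zero] at h
    exact mul_left_cancel (h.symm.trans (mul_one _).symm)⟩
  mul_mem' := by rintro _ _ ⟨m, rfl⟩ ⟨n, rfl⟩; exact ⟨m + n, tr_add Fr m n⟩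
  inv_mem' := by
    rintro _ ⟨m, rfl⟩
    refine ⟨-m, eq_inv_of_mul_eq_one_left ?_⟩
    have h := tr_add Fr 0 0
    rw [add_zero] at h
    rw [← tr_add, neg_add_cancel]
    exact mul_left_cancel (h.symm.trans (mul_one _).symm)

theorem tr_zero (Fr : Frame G α p d) : Fr.tr 0 = 1 := by
  have h := tr_add Fr 0 0
  rw [add_zero] at h
  exact mul_left_cancel (h.symm.trans (mul_one _).symm)

theorem tr_eq_one (Fr : Frame G α p d) {m : ZMod p} : Fr.tr m = 1 ↔ m = 0 :=
  ⟨fun h => tr_injective Fr (h.trans (tr_zero Fr).symm), fun h => by rw [h, tr_zero]⟩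

theorem tr_conj_H (Fr : Frame G α p d) (h : Fr.H) (y : ZMod p) :
    (h : G) * Fr.tr y * (h : G)⁻¹ = Fr.tr ((Fr.mult h : ZMod p) * y) :=
  eq_of_smul_eq_smul fun z : α => by
    by_cases hz : z = Fr.a
    · rw [hz, mul_smul, mul_smul, inv_smul_eq_iff.mpr (Fr.mem_H.mp h.2).1.symm, Fr.tr_a,
        (Fr.mem_H.mp h.2).1, Fr.tr_a]
    · obtain ⟨x, rfl⟩ := Fr.pt_surj z hz
      rw [mul_smul, mul_smul, ← Subgroup.coe_inv, Fr.smul_H, Fr.tr_pt, Fr.smul_H, Fr.tr_pt, map_inv,
        mul_add, ← mul_assoc, Units.mul_inv, one_mul]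

theorem mem_transGroup_smul (Fr : Frame G α p d) {g : G} (hg : g ∈ transGroup Fr) : g • Fr.a = Fr.a := by
  obtain ⟨m, rfl⟩ := hg
  exact Fr.tr_a m

theorem fix_tr (Fr : Frame G α p d) {y : ZMod p} (hy : y ≠ 0) {z : α} (hz : Fr.tr y • z = z) :
    z = Fr.a := by
  by_contra hne
  obtain ⟨x, rfl⟩ := Fr.pt_surj z hne
  rw [Fr.tr_pt] at hz
  exact hy (add_eq_left.mp (Fr.pt_inj hz))

theorem not_inverted [Fintype G] [IsPretransitive G α] (Fr : Frame G α p d) (hα : Nat.card α = p + 1)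
    (hG : Nat.card G = (p + 1) * p * d) (hd : 2 ≤ d) (hodd : Odd d)
    (hinv : ∀ s : G, s • Fr.a = Fr.b → s • Fr.b = Fr.a → ∀ h ∈ Fr.H, s * h * s⁻¹ = h⁻¹)
    (he : 3 * d ≤ p - 1) : False := by
  classical
  haveI : Finite α := Nat.finite_of_card_ne_zero (by omega)
  have hp : p.Prime := Fact.out
  have hp0 : (p : ℂ) ≠ 0 := by exact_mod_cast hp.ne_zero
  haveI : Nonempty α := ⟨Fr.a⟩
  let ω : AddChar (ZMod p) ℂ := ZMod.stdAddChar
  have hω : ∀ b : ZMod p, ∑ x, ω (x * b) = if b = 0 then (p : ℂ) else 0 := fun b => by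
    have h := AddChar.sum_mulShift b (ZMod.isPrimitive_stdAddChar p)
    rw [ZMod.card] at h
    push_cast at h
    exact h
  set P := transGroup Fr with hP
  let e : ZMod p ≃ P := Equiv.ofBijective (fun m => ⟨Fr.tr m, ⟨m, rfl⟩⟩)
    ⟨fun m n h => tr_injective Fr (congrArg Subtype.val h), fun ⟨_, ⟨m, rfl⟩⟩ => ⟨m, rfl⟩⟩
  have hPcard : Nat.card P = p := by rw [← Nat.card_congr e, Nat.card_zmod]
  have he_coe : ∀ m, ((e m : P) : G) = Fr.tr m := fun m => rfl
  have he_mul : ∀ x y : P, e.symm (x * y) = e.symm x + e.symm y := fun x y => e.injective (by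
    refine Subtype.ext ?_
    rw [Equiv.apply_symm_apply, he_coe, tr_add, ← he_coe, ← he_coe, Equiv.apply_symm_apply,
      Equiv.apply_symm_apply, Subgroup.coe_mul])
  have he_one : e.symm 1 = 0 := e.injective (Subtype.ext (by
    rw [Equiv.apply_symm_apply, he_coe, tr_zero, Subgroup.coe_one]))
  let μ : ZMod p → P → ℂ := fun k x => ω (k * e.symm x)
  have hμ : ∀ k, Cfsg.IsCharacter P (μ k) := fun k => isCharacter_of_isIrr (isIrrCharacter_hom
    { toFun := μ k
      map_one' := by simp [μ, he_one]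
      map_mul' := fun x y => by simp [μ, he_mul, mul_add, AddChar.map_add_eq_mul] })
  have hinnerP : ∀ (f : G → ℂ) k, Cfsg.classInner (fun x : P => f x) (μ k) =
      (p : ℂ)⁻¹ * ∑ y, f (Fr.tr y) * ω (-(k * y)) := fun f k => by
    rw [classInner_def, hPcard]
    congr 1
    refine (Fintype.sum_equiv e _ _ fun y => ?_).symm
    simp [μ, AddChar.map_neg_eq_conj, he_coe]
  let Ψ : ZMod p → G → ℂ := fun k => Cfsg.indFun P (μ k)
  have hΨ1 : ∀ k, Ψ k 1 = ((p + 1) * d : ℕ) := fun k => by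
    have hidx : P.index = (p + 1) * d := by
      have h := P.index_mul_card
      rw [hPcard, hG, mul_right_comm] at h
      exact Nat.eq_of_mul_eq_mul_right hp.pos h
    simp only [Ψ, indFun_one, hidx, μ, he_one, mul_zero, AddChar.map_zero_eq_one, mul_one]
  let S := stabilizer G Fr.a
  have hScard : Nat.card S = p * d := by
    have h := S.index_mul_card
    rw [index_stabilizer_of_transitive G Fr.a, hα, hG, mul_assoc] at h
    exact Nat.eq_of_mul_eq_mul_left (by omega) h
  let f : Fr.H × ZMod p → S := fun q => ⟨Fr.tr q.2 * (q.1 : G), by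
    show (Fr.tr q.2 * (q.1 : G)) • Fr.a = Fr.a
    rw [mul_smul, (Fr.mem_H.mp q.1.2).1, Fr.tr_a]⟩
  have hf : Function.Bijective f := by
    refine Function.Injective.bijective_of_nat_card_le ?_
      (by rw [Nat.card_prod, Fr.card_H, Nat.card_zmod, hScard, mul_comm])
    intro q q' hq
    have hq' : Fr.tr q.2 * (q.1 : G) = Fr.tr q'.2 * (q'.1 : G) := congrArg Subtype.val hq
    have hb := congrArg (fun g : G => g • Fr.b) hq'
    simp only [mul_smul] at hb
    rw [(Fr.mem_H.mp q.1.2).2, (Fr.mem_H.mp q'.1.2).2, Frame.b, Fr.tr_pt, Fr.tr_pt, zero_add, zero_add] at hb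
    have h2 : q.2 = q'.2 := Fr.pt_inj hb
    rw [h2] at hq'
    exact Prod.ext (Subtype.ext (mul_left_cancel hq')) h2
  let θ' : S →* Fr.mult.range := Fr.θ.codRestrict Fr.mult.range fun g => by
    obtain ⟨⟨h, m⟩, rfl⟩ := hf.2 g
    have hm : (⟨Fr.tr m * (h : G), (f (h, m)).2⟩ : S) =
        ⟨Fr.tr m, Fr.tr_a m⟩ * Subgroup.inclusion inf_le_left h := Subtype.ext rfl
    have htr : Fr.θ ⟨Fr.tr m, Fr.tr_a m⟩ = 1 := by
      refine Units.ext ?_
      have h1 := Fr.affine ⟨Fr.tr m, Fr.tr_a m⟩ m (by rw [Fr.tr_pt, zero_add]) 1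
      rw [Fr.tr_pt, mul_one] at h1
      simpa using (Fr.pt_inj h1).symm
    show Fr.θ ⟨Fr.tr m * (h : G), (f (h, m)).2⟩ ∈ _
    rw [hm, map_mul, htr, one_mul]
    exact ⟨h, rfl⟩
  have hθtr : ∀ m : ZMod p, ∀ hm, θ' ⟨Fr.tr m, hm⟩ = 1 := by
    intro m hm
    refine Subtype.ext (Units.ext ?_)
    have h1 := Fr.affine ⟨Fr.tr m, hm⟩ m (by rw [Fr.tr_pt, zero_add]) 1
    rw [Fr.tr_pt, mul_one] at h1
    show (Fr.θ ⟨Fr.tr m, hm⟩ : ZMod p) = 1
    simpa using (Fr.pt_inj h1).symm
  have hθH : ∀ (h : Fr.H) hm, θ' ⟨(h : G), hm⟩ = ⟨Fr.mult h, h, rfl⟩ := fun h hm => rfl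
  have hθker : ∀ g : S, θ' g = 1 ↔ (g : G) ∈ P := by
    intro g
    constructor
    · intro hg
      obtain ⟨⟨h, m⟩, rfl⟩ := hf.2 g
      have hm : f (h, m) = ⟨Fr.tr m, Fr.tr_a m⟩ * ⟨(h : G), (Fr.mem_H.mp h.2).1⟩ := Subtype.ext rfl
      rw [hm, map_mul, hθtr m (Fr.tr_a m), one_mul, hθH h (Fr.mem_H.mp h.2).1] at hg
      have h1 : h = 1 := Fr.mult_eq_one.mp (congrArg Subtype.val hg)
      refine ⟨m, ?_⟩
      show Fr.tr m = Fr.tr m * (h : G)
      rw [h1, Subgroup.coe_one, mul_one]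
    · rintro ⟨m, hm⟩
      obtain ⟨g, hg⟩ := g
      subst hm
      exact hθtr m hg
  have hextend : ∀ y : ZMod p, y ≠ 0 → ∀ x : G, x⁻¹ * Fr.tr y * x ∈ S → x ∈ S := by
    intro y hy x hx
    refine fix_tr Fr hy ?_
    have h1 : (x⁻¹ * Fr.tr y * x) • Fr.a = Fr.a := hx
    rwa [mul_smul, mul_smul, inv_smul_eq_iff] at h1
  have hΨtr : ∀ k y, y ≠ 0 → Ψ k (Fr.tr y) = ∑ h : Fr.H, ω (k * ((Fr.mult h : ZMod p) * y)) := by
    intro k y hy
    simp only [Ψ, indFun_apply, hPcard]
    rw [← Finset.sum_subset (Finset.subset_univ (Finset.univ.filter fun x => x ∈ S))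
      fun x _ hx => extendByZero_of_notMem _ fun hxP => hx (Finset.mem_filter.mpr
        ⟨Finset.mem_univ _, hextend y hy x (mem_transGroup_smul Fr hxP)⟩)]
    rw [Finset.sum_subtype _ (p := fun x => x ∈ S) (fun x => by simp) (fun x : G => Cfsg.extendByZero P (μ k) (x⁻¹ * Fr.tr y * x))]
    rw [← Fintype.sum_equiv (Equiv.ofBijective f hf) (fun q => ω (k * ((Fr.mult q.1⁻¹ : ZMod p) * y))) _ ?_]
    · rw [Fintype.sum_prod_type]
      simp only [Finset.sum_const, Finset.card_univ, ZMod.card, nsmul_eq_mul, ← Finset.mul_sum]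
      rw [inv_mul_cancel_left₀ hp0]
      exact Fintype.sum_equiv (Equiv.inv Fr.H) _ _ fun h => rfl
    · rintro ⟨h, m⟩
      have h1 : (Fr.tr m * (h : G))⁻¹ * Fr.tr y * (Fr.tr m * (h : G)) =
          ((e ((Fr.mult h⁻¹ : ZMod p) * y) : P) : G) := by
        rw [he_coe, ← tr_conj_H, Subgroup.coe_inv, inv_inv, mul_inv_rev]
        have hc : (Fr.tr m)⁻¹ * Fr.tr y * Fr.tr m = Fr.tr y := by
          rw [mul_assoc, ← tr_add, add_comm, tr_add, inv_mul_cancel_left]
        calc _ = (h : G)⁻¹ * ((Fr.tr m)⁻¹ * Fr.tr y * Fr.tr m) * (h : G) := by group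
          _ = _ := by rw [hc]
      show _ = Cfsg.extendByZero P (μ k) ((Fr.tr m * (h : G))⁻¹ * Fr.tr y * (Fr.tr m * (h : G)))
      rw [h1, extendByZero_coe]
      show _ = ω (k * e.symm (e _))
      rw [Equiv.symm_apply_apply]
  -- Gram matrix of the induced functions
  have hgramΨ : ∀ k l, Cfsg.classInner (Ψ l) (Ψ k) =
      (d : ℂ) + ((Finset.univ.filter fun h : Fr.H => l * (Fr.mult h : ZMod p) = k).card : ℂ) := by
    intro k l
    show Cfsg.classInner (Ψ l) (Cfsg.indFun P (μ k)) = _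
    rw [frobenius_reciprocity' P _ (isClassFunction_indFun P (μ l)), hinnerP]
    have hall : ∑ y, ∑ h : Fr.H, ω (y * (l * (Fr.mult h : ZMod p) - k)) =
        (p : ℂ) * ((Finset.univ.filter fun h : Fr.H => l * (Fr.mult h : ZMod p) = k).card : ℂ) := by
      rw [Finset.sum_comm, Finset.sum_congr rfl fun h _ => hω _, Finset.sum_ite, Finset.sum_const_zero,
        add_zero, Finset.sum_const, nsmul_eq_mul, mul_comm]
      congr 2
      exact congrArg Finset.card (Finset.filter_congr fun h _ => sub_eq_zero)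
    have hterm : ∀ y, Ψ l (Fr.tr y) * ω (-(k * y)) =
        (∑ h : Fr.H, ω (y * (l * (Fr.mult h : ZMod p) - k))) + if y = 0 then ((p * d : ℕ) : ℂ) else 0 := by
      intro y
      by_cases hy : y = 0
      · subst hy
        rw [tr_zero, hΨ1, if_pos rfl]
        simp only [mul_zero, neg_zero, AddChar.map_zero_eq_one, zero_mul, mul_one, Finset.sum_const,
          Finset.card_univ, ← Nat.card_eq_fintype_card, Fr.card_H, nsmul_eq_mul]
        push_cast
        ring
      · rw [hΨtr l y hy, if_neg hy, add_zero, Finset.sum_mul]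
        refine Finset.sum_congr rfl fun h _ => ?_
        rw [← AddChar.map_add_eq_mul]
        congr 1
        ring
    show (p : ℂ)⁻¹ * ∑ y, Ψ l (Fr.tr y) * ω (-(k * y)) = _
    rw [Finset.sum_congr rfl fun y _ => hterm y, Finset.sum_add_distrib, hall, Finset.sum_ite_eq',
      if_pos (Finset.mem_univ _)]
    push_cast
    field_simp
    ring
  choose c hc using fun (χ : Cfsg.IrrCharacter G) k =>
    classInner_char_nat (isCharacter_res P (isCharacter_of_isIrr χ.2)) (hμ k)
  have hΨc : ∀ (χ : Cfsg.IrrCharacter G) k, Cfsg.classInner (χ : G → ℂ) (Ψ k) = c χ k := fun χ k => by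
    rw [← hc χ k]; exact frobenius_reciprocity' P _ (isClassFunction_of_isIrr χ.2)
  have hgram : ∀ k l, ∑ χ, c χ l * c χ k =
      d + (Finset.univ.filter fun h : Fr.H => l * (Fr.mult h : ZMod p) = k).card := by
    intro k l
    have h := hgramΨ k l
    rw [classInner_eq_sum (isClassFunction_indFun P (μ l))] at h
    have h2 : ∀ χ : Cfsg.IrrCharacter G,
        Cfsg.classInner (Ψ l) (χ : G → ℂ) * conj (Cfsg.classInner (Ψ k) (χ : G → ℂ)) =
          ((c χ l * c χ k : ℕ) : ℂ) := fun χ => by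
      rw [classInner_conj_symm, hΨc, ← classInner_conj_symm, hΨc, map_natCast]
      push_cast; ring
    rw [show (∑ χ : Cfsg.IrrCharacter G, Cfsg.classInner (Cfsg.indFun P (μ l)) (χ : G → ℂ) *
      conj (Cfsg.classInner (Ψ k) (χ : G → ℂ))) = _ from Finset.sum_congr rfl fun χ _ => h2 χ,
      ← Nat.cast_sum, ← Nat.cast_add] at h
    exact_mod_cast h
  have hcdef : ∀ (χ : Cfsg.IrrCharacter G) k,
      (c χ k : ℂ) = (p : ℂ)⁻¹ * ∑ y, (χ : G → ℂ) (Fr.tr y) * ω (-(k * y)) := fun χ k => by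
    rw [← hc χ k]; exact hinnerP χ k
  have hcinv : ∀ (χ : Cfsg.IrrCharacter G) k (h : Fr.H), c χ ((Fr.mult h : ZMod p) * k) = c χ k := by
    intro χ k h
    have key : (c χ ((Fr.mult h : ZMod p) * k) : ℂ) = c χ k := by
      rw [hcdef, hcdef]
      congr 1
      refine Fintype.sum_equiv (Units.mulLeft (Fr.mult h)) _ _ fun y => ?_
      rw [Units.mulLeft_apply, ← tr_conj_H, isClassFunction_of_isIrr χ.2]
      congr 2
      ring
    exact_mod_cast key
  have hdeg : ∀ χ : Cfsg.IrrCharacter G, (χ : G → ℂ) 1 = ((∑ k, c χ k : ℕ) : ℂ) := by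
    intro χ
    rw [Nat.cast_sum, Finset.sum_congr rfl fun k _ => hcdef χ k, ← Finset.mul_sum, Finset.sum_comm,
      Finset.sum_eq_single (0 : ZMod p)]
    · simp only [mul_zero, neg_zero, AddChar.map_zero_eq_one, mul_one, Finset.sum_const, Finset.card_univ,
        ZMod.card, nsmul_eq_mul, tr_zero]
      field_simp
    · intro y _ hy
      rw [← Finset.mul_sum]
      simp only [← mul_neg, hω]
      rw [if_neg (neg_ne_zero.mpr hy), mul_zero]
    · intro h; exact absurd (Finset.mem_univ _) h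
  -- the characters induced from linear characters of a point stabiliser
  let Λ : (Fr.mult.range →* ℂˣ) → G → ℂ := fun ψ => Cfsg.indFun S (fun g => ((ψ (θ' g) : ℂˣ) : ℂ))
  have hΛchar : ∀ ψ, Cfsg.IsCharacter G (Λ ψ) := fun ψ =>
    isCharacter_indFun S (isCharacter_of_isIrr (isIrrCharacter_units_hom (ψ.comp θ')))
  have hΛ1 : ∀ ψ, Λ ψ 1 = ((p + 1 : ℕ) : ℂ) := fun ψ => by
    simp only [Λ, indFun_one, map_one, Units.val_one, mul_one]
    rw [index_stabilizer_of_transitive G Fr.a, hα]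
  have hΛtr : ∀ ψ y, y ≠ 0 → Λ ψ (Fr.tr y) = 1 := by
    intro ψ y hy
    simp only [Λ, indFun_apply]
    rw [← Finset.sum_subset (Finset.subset_univ (Finset.univ.filter fun x => x ∈ S))
      fun x _ hx => extendByZero_of_notMem _ fun hxS => hx (Finset.mem_filter.mpr
        ⟨Finset.mem_univ _, hextend y hy x hxS⟩),
      Finset.sum_congr rfl fun x hx => show _ = (1 : ℂ) from ?_]
    · rw [Finset.sum_const, nsmul_one, ← Fintype.card_subtype, ← Nat.card_eq_fintype_card,
        inv_mul_cancel₀ (card_subgroup_ne_zero S)]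
    · have hxS : x ∈ S := (Finset.mem_filter.mp hx).2
      have hmem : x⁻¹ * Fr.tr y * x ∈ S := S.mul_mem (S.mul_mem (S.inv_mem hxS) (Fr.tr_a y)) hxS
      rw [extendByZero_of_mem _ hmem]
      have : (⟨x⁻¹ * Fr.tr y * x, hmem⟩ : S) = (⟨x, hxS⟩ : S)⁻¹ * ⟨Fr.tr y, Fr.tr_a y⟩ * ⟨x, hxS⟩ :=
        Subtype.ext rfl
      rw [this, map_mul θ', map_mul θ', map_inv θ', hθtr y (Fr.tr_a y), mul_one, inv_mul_cancel, map_one, Units.val_one]
  have hΛc : ∀ ψ k, Cfsg.classInner (fun x : P => Λ ψ x) (μ k) = 1 + if k = 0 then 1 else 0 := by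
    intro ψ k
    rw [hinnerP]
    have hterm : ∀ y, Λ ψ (Fr.tr y) * ω (-(k * y)) = ω (y * -k) + if y = 0 then (p : ℂ) else 0 := by
      intro y
      by_cases hy : y = 0
      · subst hy
        rw [tr_zero, hΛ1, if_pos rfl]
        simp only [mul_zero, neg_zero, AddChar.map_zero_eq_one, zero_mul, mul_one]
        push_cast; ring
      · rw [hΛtr ψ y hy, if_neg hy, one_mul, add_zero]
        congr 1
        ring
    rw [Finset.sum_congr rfl fun y _ => hterm y, Finset.sum_add_distrib, hω, Finset.sum_ite_eq',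
      if_pos (Finset.mem_univ _)]
    by_cases hk : k = 0
    · rw [if_pos hk, if_pos (neg_eq_zero.mpr hk)]; field_simp
    · rw [if_neg hk, if_neg (neg_ne_zero.mpr hk)]; field_simp; ring_nf
  obtain ⟨s, hsa, hsb⟩ := is_two_pretransitive_iff.mp Fr.two_pretransitive Fr.a_ne_b Fr.a_ne_b.symm
  have hΛnorm : ∀ ψ, ψ ≠ 1 → Cfsg.classInner (Λ ψ) (Λ ψ) = 1 := by
    intro ψ hψ
    show Cfsg.classInner (Cfsg.indFun S (fun g => ((ψ (θ' g) : ℂˣ) : ℂ))) (Λ ψ) = 1
    rw [frobenius_reciprocity S _ (isClassFunction_indFun S _), classInner_def]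
    simp only [Λ, indFun_apply, map_mul, map_inv₀, map_natCast, map_sum, Finset.mul_sum]
    rw [Finset.sum_comm]
    have hin : ∀ x : G, x ∈ S → ∀ g : S, (ψ (θ' g) : ℂ) * conj (Cfsg.extendByZero S
        (fun g => ((ψ (θ' g) : ℂˣ) : ℂ)) (x⁻¹ * (g : G) * x)) = 1 := by
      intro x hx g
      have hmem : x⁻¹ * (g : G) * x ∈ S := S.mul_mem (S.mul_mem (S.inv_mem hx) g.2) hx
      rw [extendByZero_of_mem _ hmem, show (⟨x⁻¹ * (g : G) * x, hmem⟩ : S) = ⟨x, hx⟩⁻¹ * g * ⟨x, hx⟩
        from Subtype.ext rfl, map_mul θ', map_mul θ', map_inv θ', mul_comm ((θ' ⟨x, hx⟩)⁻¹), inv_mul_cancel_right,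
        Complex.mul_conj', Complex.norm_eq_one_of_pow_eq_one (n := Nat.card Fr.mult.range)
          (by rw [← Units.val_pow_eq_pow_val, ← map_pow, pow_card_eq_one', map_one, Units.val_one])
          Nat.card_pos.ne']
      simp
    have hout : ∀ x : G, x ∉ S → ∑ g : S, (ψ (θ' g) : ℂ) * conj (Cfsg.extendByZero S
        (fun g => ((ψ (θ' g) : ℂˣ) : ℂ)) (x⁻¹ * (g : G) * x)) = 0 := by
      intro x hx
      obtain ⟨m, hm⟩ := Fr.pt_surj (x • Fr.a) hx
      set w : G := (Fr.tr m * s)⁻¹ * x with hw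
      have hwS : w • Fr.a = Fr.a := by
        rw [hw, mul_smul, inv_smul_eq_iff, mul_smul, hsa, Frame.b, Fr.tr_pt, zero_add, hm]
      let j : Fr.H → S := fun h => ⟨Fr.tr m * (h : G) * (Fr.tr m)⁻¹,
        S.mul_mem (S.mul_mem (Fr.tr_a m) (Fr.mem_H.mp h.2).1) (S.inv_mem (Fr.tr_a m))⟩
      have hj : Function.Injective j := fun h h' e' => by
        have h1 : Fr.tr m * (h : G) * (Fr.tr m)⁻¹ = Fr.tr m * (h' : G) * (Fr.tr m)⁻¹ := congrArg Subtype.val e'
        exact Subtype.ext (by simpa using h1)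
      rw [← Finset.sum_subset (Finset.subset_univ (Finset.univ.image j)) fun g _ hg => ?_]
      · rw [Finset.sum_image fun h _ h' _ e' => hj e']
        have hval : ∀ h : Fr.H, (ψ (θ' (j h)) : ℂ) * conj (Cfsg.extendByZero S
            (fun g => ((ψ (θ' g) : ℂˣ) : ℂ)) (x⁻¹ * ((j h : S) : G) * x)) =
            ((ψ ⟨Fr.mult h, h, rfl⟩ : ℂˣ) : ℂ) ^ 2 := by
          intro h
          have e1 : j h = ⟨Fr.tr m, Fr.tr_a m⟩ * ⟨(h : G), (Fr.mem_H.mp h.2).1⟩ *
              (⟨Fr.tr m, Fr.tr_a m⟩ : S)⁻¹ := Subtype.ext rfl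
          have hx' : x = Fr.tr m * s * w := by rw [hw]; group
          have hs' : s⁻¹ * (h : G) * s = ((h⁻¹ : Fr.H) : G) := by
            have h1 := hinv s hsa hsb _ (Fr.H.inv_mem h.2)
            rw [inv_inv, mul_inv_eq_iff_eq_mul] at h1
            rw [Subgroup.coe_inv, mul_assoc, ← h1, inv_mul_cancel_left]
          have e2 : x⁻¹ * ((j h : S) : G) * x = (((⟨w, hwS⟩ : S)⁻¹ *
              ⟨((h⁻¹ : Fr.H) : G), (Fr.mem_H.mp (h⁻¹).2).1⟩ * ⟨w, hwS⟩ : S) : G) := by
            rw [Subgroup.coe_mul, Subgroup.coe_mul, Subgroup.coe_inv, ← hs']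
            show x⁻¹ * (Fr.tr m * (h : G) * (Fr.tr m)⁻¹) * x = w⁻¹ * (s⁻¹ * (h : G) * s) * w
            rw [hx']
            group
          rw [e2, extendByZero_coe, e1, map_mul θ', map_mul θ', map_inv θ', hθtr m (Fr.tr_a m),
            hθH h (Fr.mem_H.mp h.2).1, one_mul, inv_one, mul_one,
            map_mul θ', map_mul θ', map_inv θ', mul_comm ((θ' ⟨w, hwS⟩)⁻¹), inv_mul_cancel_right,
            hθH h⁻¹ (Fr.mem_H.mp (h⁻¹).2).1,
            show (⟨Fr.mult h⁻¹, h⁻¹, rfl⟩ : Fr.mult.range) = ⟨Fr.mult h, h, rfl⟩⁻¹ from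
              Subtype.ext (map_inv _ _), map_inv, Units.val_inv_eq_inv_val, map_inv₀,
            ← Complex.inv_eq_conj (Complex.norm_eq_one_of_pow_eq_one (n := Nat.card Fr.mult.range)
              (by rw [← Units.val_pow_eq_pow_val, ← map_pow, pow_card_eq_one', map_one, Units.val_one])
              Nat.card_pos.ne'), inv_inv, sq]
        rw [Finset.sum_congr rfl fun h _ => hval h]
        obtain ⟨h₀, hh₀⟩ : ∃ h₀ : Fr.H, ψ ⟨Fr.mult h₀, h₀, rfl⟩ ^ 2 ≠ 1 := by
          by_contra! hall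
          refine hψ (MonoidHom.ext fun r => ?_)
          obtain ⟨r, h, rfl⟩ := r
          obtain ⟨i, hi⟩ := hodd
          have h1 : (⟨Fr.mult h, h, rfl⟩ : Fr.mult.range) ^ d = 1 := by
            refine Subtype.ext ?_
            show Fr.mult h ^ d = 1
            have h2 := pow_card_eq_one' (G := Fr.H) (x := h)
            rw [Fr.card_H] at h2
            rw [← map_pow, h2, map_one]
          have h3 := congrArg ψ h1
          rw [map_pow, map_one] at h3
          have h4 := (congrArg (fun n => ψ ⟨Fr.mult h, h, rfl⟩ ^ n) hi).symm.trans h3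
          simp only [pow_succ, pow_mul, hall h, one_pow, one_mul] at h4
          exact h4
        have hmulH : ∀ h h' : Fr.H, (⟨Fr.mult (h * h'), h * h', rfl⟩ : Fr.mult.range) =
            ⟨Fr.mult h, h, rfl⟩ * ⟨Fr.mult h', h', rfl⟩ := fun h h' => Subtype.ext (map_mul _ _ _)
        set T := ∑ h : Fr.H, ((ψ ⟨Fr.mult h, h, rfl⟩ : ℂˣ) : ℂ) ^ 2 with hT
        have hshift : ((ψ ⟨Fr.mult h₀, h₀, rfl⟩ : ℂˣ) : ℂ) ^ 2 * T = T := by
          rw [hT, Finset.mul_sum]
          exact Fintype.sum_equiv (Equiv.mulLeft h₀) _ _ fun h => by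
            rw [Equiv.coe_mulLeft, hmulH, map_mul, Units.val_mul, mul_pow]
        by_contra hT0
        exact hh₀ (Units.ext (by
          rw [Units.val_pow_eq_pow_val, Units.val_one]
          exact (mul_eq_right₀ hT0).mp hshift))
      · rw [extendByZero_of_notMem _ fun hmem => hg (Finset.mem_image.mpr ?_), map_zero, mul_zero]
        have hgx : (g : G) • (x • Fr.a) = x • Fr.a := by
          have h1 : (x⁻¹ * (g : G) * x) • Fr.a = Fr.a := hmem
          rwa [mul_smul, mul_smul, inv_smul_eq_iff] at h1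
        refine ⟨⟨(Fr.tr m)⁻¹ * (g : G) * Fr.tr m, Fr.mem_H.mpr ⟨?_, ?_⟩⟩, Finset.mem_univ _,
          Subtype.ext (by show Fr.tr m * ((Fr.tr m)⁻¹ * (g : G) * Fr.tr m) * (Fr.tr m)⁻¹ = (g : G); group)⟩
        · rw [mul_smul, mul_smul, Fr.tr_a, (mem_stabilizer_iff.mp g.2), inv_smul_eq_iff, Fr.tr_a]
        · rw [mul_smul, mul_smul, Frame.b, Fr.tr_pt, zero_add, hm, hgx, inv_smul_eq_iff, Fr.tr_pt,
            zero_add, hm]
    have hScard' : (Nat.card S : ℂ) ≠ 0 := card_subgroup_ne_zero S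
    have hsum : ∀ x : G, ∑ g : S, (ψ (θ' g) : ℂ) * conj (Cfsg.extendByZero S
        (fun g => ((ψ (θ' g) : ℂˣ) : ℂ)) (x⁻¹ * (g : G) * x)) = if x ∈ S then (Nat.card S : ℂ) else 0 := by
      intro x
      split_ifs with hx
      · rw [Finset.sum_congr rfl fun g _ => hin x hx g, Finset.sum_const, Finset.card_univ,
          ← Nat.card_eq_fintype_card, nsmul_one]
      · exact hout x hx
    calc _ = ∑ x : G, (Nat.card S : ℂ)⁻¹ * ((Nat.card S : ℂ)⁻¹ * ∑ g : S, (ψ (θ' g) : ℂ) *
          conj (Cfsg.extendByZero S (fun g => ((ψ (θ' g) : ℂˣ) : ℂ)) (x⁻¹ * (g : G) * x))) := by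
            refine Finset.sum_congr rfl fun x _ => ?_
            rw [Finset.mul_sum, Finset.mul_sum]
            exact Finset.sum_congr rfl fun g _ => by ring
      _ = 1 := by
            rw [Finset.sum_congr rfl fun x _ => by rw [hsum x, mul_ite, mul_zero, mul_ite, mul_zero,
              inv_mul_cancel₀ hScard', mul_one], ← Finset.sum_filter, Finset.sum_const,
              ← Fintype.card_subtype, ← Nat.card_eq_fintype_card, nsmul_eq_mul, mul_inv_cancel₀ hScard']
  have hstI : Cfsg.IsIrrCharacter G (fun g : G => (Nat.card (fixedBy α g) : ℂ) - 1) :=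
    (permChar_sub_one_irr_iff (by omega)).mpr Fr.two_pretransitive
  have hperm : (fun g : G => (Nat.card (fixedBy α g) : ℂ)) = Λ 1 := by
    rw [permChar_eq_indFun (G := G) Fr.a]
    simp only [Λ, MonoidHom.one_apply, Units.val_one]
    rfl
  let one : Cfsg.IrrCharacter G := irrOne
  let st : Cfsg.IrrCharacter G := ⟨_, hstI⟩
  have hone_st : one ≠ st := by
    intro h
    have h1 : (1 : ℂ) = (Nat.card (fixedBy α (1 : G)) : ℂ) - 1 :=
      congrFun (congrArg Subtype.val h) 1
    have h2 : fixedBy α (1 : G) = Set.univ := Set.eq_univ_of_forall fun y => one_smul G y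
    rw [h2, Nat.card_congr (Equiv.Set.univ α), hα] at h1
    push_cast at h1
    have h3 : (p : ℂ) = ((1 : ℕ) : ℂ) := by push_cast; linear_combination -h1
    exact hp.one_lt.ne' (by exact_mod_cast h3)
  have hcone : ∀ k, c one k = if k = 0 then 1 else 0 := by
    intro k
    have key : (c one k : ℂ) = ((if k = 0 then 1 else 0 : ℕ) : ℂ) := by
      rw [hcdef]
      show (p : ℂ)⁻¹ * ∑ y, (1 : ℂ) * ω (-(k * y)) = _
      simp only [one_mul]
      rw [Finset.sum_congr rfl fun y _ => show ω (-(k * y)) = ω (y * -k) by congr 1; ring, hω]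
      by_cases hk : k = 0 <;> simp [hk, hp0]
    exact_mod_cast key
  have hcst : ∀ k, c st k = 1 := by
    intro k
    have key : (c st k : ℂ) + (c one k : ℂ) = 1 + if k = 0 then 1 else 0 := by
      rw [← hΛc 1 k, hinnerP, ← hperm, hcdef, hcdef, ← mul_add, ← Finset.sum_add_distrib]
      congr 1
      refine Finset.sum_congr rfl fun y _ => ?_
      show ((Nat.card (fixedBy α (Fr.tr y)) : ℂ) - 1) * _ + (1 : ℂ) * _ = _
      ring
    rw [hcone] at key
    by_cases hk : k = 0
    · rw [if_pos hk, if_pos hk, Nat.cast_one] at key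
      exact_mod_cast add_right_cancel key
    · rw [if_neg hk, if_neg hk, Nat.cast_zero, add_zero, add_zero] at key
      exact_mod_cast key
  haveI : Finite (Fr.mult.range →* ℂˣ) :=
    Finite.of_equiv _ (CommGroup.monoidHom_mulEquiv_of_hasEnoughRootsOfUnity Fr.mult.range ℂ).some.symm.toEquiv
  haveI := Fintype.ofFinite (Fr.mult.range →* ℂˣ)
  have hclass : ∀ χ, χ ≠ one → χ ≠ st → c χ 0 ≠ 0 → c χ 0 = 2 ∧ ∀ k, k ≠ 0 → c χ k = 1 := by
    intro χ h1 h2 h0
    have hsumψ : ∀ g : S, ∑ ψ : Fr.mult.range →* ℂˣ, ((ψ (θ' g) : ℂˣ) : ℂ) =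
        if (g : G) ∈ P then (d : ℂ) else 0 := by
      intro g
      by_cases hg : (g : G) ∈ P
      · rw [if_pos hg, (hθker g).mpr hg]
        simp only [map_one, Units.val_one, Finset.sum_const, Finset.card_univ, nsmul_eq_mul, mul_one]
        rw [← Nat.card_eq_fintype_card,
          Nat.card_congr (CommGroup.monoidHom_mulEquiv_of_hasEnoughRootsOfUnity Fr.mult.range ℂ).some.toEquiv,
          ← Nat.card_congr (MonoidHom.ofInjective Fr.mult_injective).toEquiv, Fr.card_H]
      · rw [if_neg hg]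
        obtain ⟨φ, hφ⟩ := CommGroup.exists_apply_ne_one_of_hasEnoughRootsOfUnity Fr.mult.range ℂ
          (a := θ' g) (fun h => hg ((hθker g).mp h))
        set T := ∑ ψ : Fr.mult.range →* ℂˣ, ((ψ (θ' g) : ℂˣ) : ℂ) with hT
        have hshift : ((φ (θ' g) : ℂˣ) : ℂ) * T = T := by
          rw [hT, Finset.mul_sum]
          exact Fintype.sum_equiv (Equiv.mulLeft φ) _ _ fun ψ => by simp
        by_contra hT0
        exact hφ (Units.ext ((mul_eq_right₀ hT0).mp hshift))
    obtain ⟨ψ, hψ⟩ : ∃ ψ, Cfsg.classInner (χ : G → ℂ) (Λ ψ) ≠ 0 := by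
      by_contra! hall
      refine h0 ?_
      have hsum : ∑ ψ, Cfsg.classInner (χ : G → ℂ) (Λ ψ) = (c χ 0 : ℂ) := by
        simp only [Λ, frobenius_reciprocity' S _ (isClassFunction_of_isIrr χ.2)]
        rw [hcdef, ← classInner_sum_right, classInner_def, hScard]
        have hterm : ∀ g : S, (χ : G → ℂ) g * conj ((∑ ψ : Fr.mult.range →* ℂˣ,
            fun g : S => ((ψ (θ' g) : ℂˣ) : ℂ)) g) = if (g : G) ∈ P then (χ : G → ℂ) g * d else 0 := by
          intro g
          rw [Finset.sum_apply, hsumψ g]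
          split_ifs <;> simp
        have hsumP : ∑ y : ZMod p, (χ : G → ℂ) (Fr.tr y) * d =
            ∑ g ∈ Finset.univ.filter (fun g : S => (g : G) ∈ P), (χ : G → ℂ) g * d :=
          Finset.sum_bij (fun y _ => (⟨Fr.tr y, Fr.tr_a y⟩ : S))
            (fun y _ => Finset.mem_filter.mpr ⟨Finset.mem_univ _, ⟨y, rfl⟩⟩)
            (fun y _ y' _ hh => tr_injective Fr (congrArg Subtype.val hh))
            (fun g hg => by
              obtain ⟨y, hy⟩ := (Finset.mem_filter.mp hg).2
              exact ⟨y, Finset.mem_univ _, Subtype.ext hy⟩)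
            (fun _ _ => rfl)
        rw [Finset.sum_congr rfl fun g _ => hterm g, ← Finset.sum_filter, ← hsumP]
        rw [← Finset.sum_mul]
        simp only [zero_mul, neg_zero, AddChar.map_zero_eq_one, mul_one, Nat.cast_mul]
        have hd0 : (d : ℂ) ≠ 0 := by exact_mod_cast (show d ≠ 0 by omega)
        field_simp
      rw [Finset.sum_congr rfl fun ψ _ => hall ψ, Finset.sum_const_zero] at hsum
      exact_mod_cast hsum.symm
    have hψ1 : ψ ≠ 1 := by
      rintro rfl
      refine hψ ?_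
      rw [← hperm, show (fun g : G => (Nat.card (fixedBy α g) : ℂ)) = (one : G → ℂ) + (st : G → ℂ) from
          funext fun g => by
            show _ = (1 : ℂ) + ((Nat.card (fixedBy α g) : ℂ) - 1)
            ring,
        classInner_add_right, classInner_irr_ne χ.2 one.2 (fun h => h1 (Subtype.ext h)),
        classInner_irr_ne χ.2 st.2 (fun h => h2 (Subtype.ext h)), add_zero]
    have hχΛ : (χ : G → ℂ) = Λ ψ := by
      by_contra hne
      exact hψ (classInner_irr_ne χ.2 (irr_of_norm_one (hΛchar ψ) (hΛnorm ψ hψ1)) hne)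
    have hck : ∀ k, (c χ k : ℂ) = 1 + if k = 0 then 1 else 0 := fun k => by
      rw [← hc χ k, hχΛ]; exact hΛc ψ k
    refine ⟨?_, fun k hk => ?_⟩
    · have h := hck 0
      rw [if_pos rfl, one_add_one_eq_two] at h
      exact_mod_cast h
    · have h := hck k
      rw [if_neg hk, add_zero] at h
      exact_mod_cast h
  let L := Finset.univ.filter fun χ : Cfsg.IrrCharacter G => χ ≠ one ∧ χ ≠ st ∧ c χ 0 ≠ 0
  let R := Finset.univ.filter fun χ : Cfsg.IrrCharacter G => c χ 0 = 0
  have hsplit : ∀ F : Cfsg.IrrCharacter G → ℕ, ∑ χ, F χ = F one + F st + ∑ χ ∈ L, F χ + ∑ χ ∈ R, F χ := by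
    intro F
    rw [← Finset.sum_filter_add_sum_filter_not Finset.univ (fun χ => c χ 0 = 0) F, add_comm]
    congr 1
    have h1 : (Finset.univ.filter fun χ : Cfsg.IrrCharacter G => ¬ c χ 0 = 0) = insert one (insert st L) := by
      ext χ
      simp only [L, Finset.mem_filter, Finset.mem_univ, true_and, Finset.mem_insert]
      constructor
      · intro h
        by_cases e1 : χ = one
        · exact Or.inl e1
        by_cases e2 : χ = st
        · exact Or.inr (Or.inl e2)
        exact Or.inr (Or.inr ⟨e1, e2, h⟩)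
      · rintro (rfl | rfl | ⟨-, -, h⟩)
        · rw [hcone, if_pos rfl]; exact one_ne_zero
        · rw [hcst]; exact one_ne_zero
        · exact h
    rw [h1, Finset.sum_insert (by simp [L, hone_st]), Finset.sum_insert (by simp [L]), add_assoc]
  set K := L.card with hK
  have hK2 : 2 * K + 1 = d := by
    have h := hgram 0 0
    simp only [zero_mul, Finset.filter_true_of_mem fun _ _ => trivial, Finset.card_univ,
      ← Nat.card_eq_fintype_card, Fr.card_H] at h
    have hL : ∑ χ ∈ L, c χ 0 * c χ 0 = ∑ χ ∈ L, 4 := Finset.sum_congr rfl fun χ hχ => by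
      obtain ⟨-, e1, e2, e3⟩ := Finset.mem_filter.mp hχ
      rw [(hclass χ e1 e2 e3).1]
    have hR : ∑ χ ∈ R, c χ 0 * c χ 0 = 0 := Finset.sum_eq_zero fun χ hχ => by
      rw [(Finset.mem_filter.mp hχ).2, mul_zero]
    rw [hsplit, hcone, if_pos rfl, hcst, hL, hR, Finset.sum_const, smul_eq_mul, ← hK] at h
    omega
  let I := (ZMod p)ˣ ⧸ Fr.mult.range
  let rep : I → (ZMod p)ˣ := Quotient.out
  have hrep : ∀ u : (ZMod p)ˣ, ∀ χ, c χ (rep (QuotientGroup.mk u) : ZMod p) = c χ (u : ZMod p) := by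
    intro u χ
    obtain ⟨⟨t, h, rfl⟩, ht⟩ := QuotientGroup.mk_out_eq_mul Fr.mult.range u
    show c χ ((Quotient.out (QuotientGroup.mk u : I) : (ZMod p)ˣ) : ZMod p) = _
    rw [ht, Units.val_mul, mul_comm, hcinv]
  have hgramI : ∀ i j : I, ∑ χ : R, c χ (rep i : ZMod p) * c χ (rep j : ZMod p) =
      (if i = j then 1 else 0) + K := by
    intro i j
    have h := hgram (rep j : ZMod p) (rep i : ZMod p)
    have hne : ∀ i, (rep i : ZMod p) ≠ 0 := fun i => Units.ne_zero _
    rw [hsplit, hcone, hcone, if_neg (hne i), zero_mul, hcst, hcst, Finset.sum_congr rfl fun χ hχ => by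
        obtain ⟨-, e1, e2, e3⟩ := Finset.mem_filter.mp hχ
        rw [(hclass χ e1 e2 e3).2 _ (hne i), (hclass χ e1 e2 e3).2 _ (hne j)],
      Finset.sum_const, ← hK, zero_add, mul_one, smul_eq_mul, mul_one,
      ← Finset.sum_coe_sort R] at h
    have hfilter : (Finset.univ.filter fun h : Fr.H => (rep i : ZMod p) * (Fr.mult h : ZMod p) = rep j).card =
        if i = j then 1 else 0 := by
      split_ifs with hij
      · subst hij
        rw [Finset.card_eq_one]
        refine ⟨1, ?_⟩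
        ext h
        simp only [Finset.mem_filter, Finset.mem_univ, true_and, Finset.mem_singleton]
        constructor
        · intro hh
          rw [← Fr.mult_eq_one]
          exact Units.ext ((mul_eq_left₀ (hne i)).mp hh)
        · rintro rfl; simp
      · rw [Finset.card_eq_zero, Finset.filter_eq_empty_iff]
        intro h _ hh
        refine hij ?_
        have h1 : rep i * Fr.mult h = rep j := Units.ext hh
        have h2 := congrArg (QuotientGroup.mk (s := Fr.mult.range)) h1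
        rw [QuotientGroup.mk_mul_of_mem _ (show Fr.mult h ∈ Fr.mult.range from ⟨h, rfl⟩)] at h2
        simpa [rep] using h2
    rw [hfilter] at h
    omega
  have hIcard : Fintype.card I * d = p - 1 := by
    have h := Fr.mult.range.index_mul_card
    rwa [← Nat.card_congr (MonoidHom.ofInjective Fr.mult_injective).toEquiv, Fr.card_H,
      Nat.card_eq_fintype_card, ZMod.card_units, Subgroup.index_eq_card, Nat.card_eq_fintype_card] at h
  have hI3 : 3 ≤ Fintype.card I := Nat.le_of_mul_le_mul_right (by omega) (show 0 < d by omega)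
  have hdegR : ∀ χ : R, (χ.1 : G → ℂ) 1 = ((d * ∑ i : I, c χ (rep i : ZMod p) : ℕ) : ℂ) := by
    intro χ
    rw [hdeg]
    congr 1
    rw [← Finset.add_sum_erase _ _ (Finset.mem_univ (0 : ZMod p)), (Finset.mem_filter.mp χ.2).2, zero_add,
      Finset.sum_bij' (t := (Finset.univ : Finset (ZMod p)ˣ)) (g := fun u => c χ (u : ZMod p))
        (fun k hk => Units.mk0 k (Finset.mem_erase.mp hk).1) (fun u _ => (u : ZMod p))
        (fun _ _ => Finset.mem_univ _) (fun u _ => Finset.mem_erase.mpr ⟨u.ne_zero, Finset.mem_univ _⟩)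
        (fun _ _ => rfl) (fun u _ => Units.mk0_val u _) (fun _ _ => rfl),
      Finset.mul_sum, ← Finset.sum_fiberwise Finset.univ (QuotientGroup.mk (s := Fr.mult.range))]
    refine Finset.sum_congr rfl fun i _ => ?_
    rw [Finset.sum_congr rfl fun u hu => by
        rw [← hrep u χ, show (QuotientGroup.mk u : I) = i from (Finset.mem_filter.mp hu).2],
      Finset.sum_const, smul_eq_mul]
    congr 1
    rw [← Fintype.card_subtype, ← Nat.card_eq_fintype_card]
    refine Eq.trans (Nat.card_congr (Equiv.symm ?_))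
      ((Nat.card_congr (MonoidHom.ofInjective Fr.mult_injective).toEquiv).symm.trans Fr.card_H)
    exact
      { toFun := fun t => ⟨rep i * t, by
          rw [QuotientGroup.mk_mul_of_mem _ t.2]; exact Quotient.out_eq i⟩
        invFun := fun u => ⟨(rep i)⁻¹ * u.1, by
          rw [← QuotientGroup.eq]
          exact (Quotient.out_eq i).trans u.2.symm⟩
        left_inv := fun t => Subtype.ext (inv_mul_cancel_left _ _)
        right_inv := fun u => Subtype.ext (mul_inv_cancel_left _ _) }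
  have hSdvd : ∀ χ : R, (∑ i : I, c χ (rep i : ZMod p)) ∣ (p + 1) * p := by
    intro χ
    have h := degree_dvd_card χ.1.2 (hdegR χ)
    rw [hG, mul_comm _ d] at h
    exact Nat.dvd_of_mul_dvd_mul_left (by omega) h
  have hep : Fintype.card I < p := by
    have : Fintype.card I * 1 ≤ Fintype.card I * d := Nat.mul_le_mul_left _ (by omega)
    have := hp.two_le
    omega
  have hnc : ∀ χ : R, ∃ i j : I, c χ (rep i : ZMod p) ≠ c χ (rep j : ZMod p) := by
    intro χ
    by_contra! hall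
    obtain ⟨i₀⟩ : Nonempty I := inferInstance
    have hS : (∑ i : I, c χ (rep i : ZMod p)) = Fintype.card I * c χ (rep i₀ : ZMod p) := by
      rw [Finset.sum_congr rfl fun i _ => hall i i₀, Finset.sum_const, Finset.card_univ, smul_eq_mul]
    have hdvd : Fintype.card I ∣ p + 1 :=
      (Nat.coprime_of_lt_prime (by omega) hep hp).symm.dvd_of_dvd_mul_right
        ((dvd_mul_right _ _).trans (hS ▸ hSdvd χ))
    have h2 : Fintype.card I ∣ 2 := by
      have h3 : p + 1 = Fintype.card I * d + 2 := by omega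
      exact (Nat.dvd_add_right (dvd_mul_right _ d)).mp (h3 ▸ hdvd)
    have := Nat.le_of_dvd (by norm_num) h2
    omega
  obtain ⟨⟨χ⟩, hsq⟩ := row_sums (fun (χ : R) i => c χ (rep i : ZMod p)) K hI3 hgramI hnc
  set T := ∑ i : I, c χ (rep i : ZMod p) with hT
  have hTsq : T ^ 2 = 1 + Fintype.card I * K := hsq χ
  have hTp : T < p := by
    by_contra! hge
    have h1 : p ^ 2 ≤ T ^ 2 := Nat.pow_le_pow_left hge 2
    have h2 : Fintype.card I * K ≤ Fintype.card I * d := Nat.mul_le_mul_left _ (by omega)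
    have h3 : p * 2 ≤ p ^ 2 := by rw [sq]; exact Nat.mul_le_mul_left p hp.two_le
    omega
  have hT0 : T ≠ 0 := by intro h; rw [h] at hTsq; simp at hTsq; omega
  have hT1 : T ∣ p + 1 := (Nat.coprime_of_lt_prime hT0 hTp hp).symm.dvd_of_dvd_mul_right (hSdvd χ)
  have hkey : p + 1 = Fintype.card I + 2 * T ^ 2 := by
    have : Fintype.card I * (2 * K + 1) = 2 * (Fintype.card I * K) + Fintype.card I := by ring
    have h2 : Fintype.card I * (2 * K + 1) = Fintype.card I * d := congrArg _ hK2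
    omega
  have hTI : T ∣ Fintype.card I := by
    rw [hkey] at hT1
    exact (Nat.dvd_add_left ((dvd_pow_self T two_ne_zero).mul_left 2)).mp hT1
  have hT11 : T ∣ 1 := by
    have h1 : T ∣ 1 + Fintype.card I * K := hTsq ▸ dvd_pow_self T two_ne_zero
    exact (Nat.dvd_add_left (hTI.mul_right K)).mp h1
  rw [Nat.dvd_one.mp hT11] at hTsq
  have : Fintype.card I * K = 0 := by omega
  rcases Nat.mul_eq_zero.mp this with h | h <;> omega

end CfsgLib.SmallGroups.PrimePlusOne
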