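import Cfsg.Agent.Lib.SmallGroups.PrimePlusOne.Setup
import Cfsg.Agent.Lib.SmallGroups.PrimePlusOne.Characters
import Cfsg.Agent.Lib.Transfer.Frobenius
import Mathlib

/-!
Transitive groups of order `(p + 1) * p * d` on `p + 1` points with `d` odd: either the two-point
stabiliser is inverted by the elements swapping the two points, or Burnside's transfer gives a
smaller group of the same kind; the elements of order `p` generate a group of order `(p + 1) * p`
unless `p - 1 = 2 * d`.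
-/

set_option autoImplicit false

namespace CfsgLib.SmallGroups.PrimePlusOne

open MulAction CfsgLib.Transfer

/-- The subgroup generated by the elements whose `p`-th power is trivial. -/
def pGen (p : ℕ) (G : Type*) [Group G] : Subgroup G := Subgroup.closure {x | x ^ p = 1}

theorem pGen_normal (p : ℕ) (G : Type*) [Group G] : (pGen p G).Normal := by
  refine ⟨fun x hx g => ?_⟩
  induction hx using Subgroup.closure_induction with
  | mem y hy => exact Subgroup.subset_closure (by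
      show (g * y * g⁻¹) ^ p = 1
      rw [conj_pow, hy, mul_one, mul_inv_cancel])
  | one => simp
  | mul y z _ _ ihy ihz => simpa [mul_assoc] using (pGen p G).mul_mem ihy ihz
  | inv y _ ih => simpa [mul_assoc] using (pGen p G).inv_mem ih

theorem mem_pGen {p : ℕ} {G : Type*} [Group G] {x : G} (hx : x ^ p = 1) : x ∈ pGen p G :=
  Subgroup.subset_closure hx

variable {G α : Type*} [Group G] [MulAction G α] [FaithfulSMul G α] {p d : ℕ} [Fact p.Prime]

theorem tr_pow (Fr : Frame G α p d) (m : ZMod p) : Fr.tr m ^ p = 1 := by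
  have h : ∀ n : ℕ, Fr.tr m ^ n = Fr.tr ((n : ZMod p) * m) := by
    intro n
    induction n with
    | zero => rw [pow_zero, Nat.cast_zero, zero_mul, tr_zero]
    | succ n ih => rw [pow_succ, ih, ← tr_add, Nat.cast_succ, add_one_mul]
  rw [h, ZMod.natCast_self, zero_mul, tr_zero]

theorem transitive_of_normal [IsPretransitive G α] (Fr : Frame G α p d) {N : Subgroup G}
    (hN : N.Normal) (htr : ∀ m, Fr.tr m ∈ N) : IsPretransitive N α := by
  obtain ⟨n₀, hn₀⟩ : ∃ n₀ : N, (n₀ : G) • Fr.a ≠ Fr.a := by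
    obtain ⟨g, hg⟩ := exists_smul_eq G Fr.b Fr.a
    refine ⟨⟨g * Fr.tr 1 * g⁻¹, hN.conj_mem _ (htr 1) g⟩, fun h => ?_⟩
    rw [mul_smul, mul_smul, inv_smul_eq_iff.mpr hg.symm] at h
    have h1 := MulAction.injective g (h.trans hg.symm)
    rw [Frame.b, Fr.tr_pt, zero_add] at h1
    exact one_ne_zero (Fr.pt_inj h1)
  have key : ∀ y, ∃ n : N, (n : G) • Fr.a = y := by
    intro y
    by_cases hy : y = Fr.a
    · exact ⟨1, by rw [hy, Subgroup.coe_one, one_smul]⟩
    obtain ⟨x, rfl⟩ := Fr.pt_surj y hy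
    obtain ⟨m, hm⟩ := Fr.pt_surj _ hn₀
    refine ⟨⟨Fr.tr (x - m), htr _⟩ * n₀, ?_⟩
    rw [Subgroup.coe_mul, mul_smul, ← hm, Fr.tr_pt, add_sub_cancel]
  refine ⟨fun x y => ?_⟩
  obtain ⟨n, hn⟩ := key x
  obtain ⟨n', hn'⟩ := key y
  refine ⟨n' * n⁻¹, ?_⟩
  show ((n' * n⁻¹ : N) : G) • x = y
  rw [Subgroup.coe_mul, Subgroup.coe_inv, mul_smul, inv_smul_eq_iff.mpr hn.symm, hn']

theorem inverted_or_reduce [Finite G] [IsPretransitive G α] (Fr : Frame G α p d)
    (hα : Nat.card α = p + 1) (hG : Nat.card G = (p + 1) * p * d) (hd : d < p) (hodd : Odd d) :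
    (∀ s : G, s • Fr.a = Fr.b → s • Fr.b = Fr.a → ∀ h ∈ Fr.H, s * h * s⁻¹ = h⁻¹) ∨
      ∃ (N : Subgroup G) (d' : ℕ), IsPretransitive N α ∧ Nat.card N = (p + 1) * p * d' ∧ d' ∣ d ∧
        d' < d ∧ ∀ x : G, x ^ p = 1 → x ∈ N := by
  classical
  have hp : p.Prime := Fact.out
  obtain ⟨s, hsa, hsb⟩ := is_two_pretransitive_iff.mp Fr.two_pretransitive Fr.a_ne_b Fr.a_ne_b.symm
  have hcomm := Fr.commute_H
  have hconj : ∀ s' : G, s' • Fr.a = Fr.b → s' • Fr.b = Fr.a → ∀ h ∈ Fr.H,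
      s' * h * s'⁻¹ = s * h * s⁻¹ := by
    intro s' ha' hb' h hh
    have hk : s⁻¹ * s' ∈ Fr.H := Fr.mem_H.mpr
      ⟨by rw [mul_smul, ha', inv_smul_eq_iff, hsa], by rw [mul_smul, hb', inv_smul_eq_iff, hsb]⟩
    calc s' * h * s'⁻¹ = s * ((s⁻¹ * s') * h * (s⁻¹ * s')⁻¹) * s⁻¹ := by group
      _ = s * h * s⁻¹ := by rw [hcomm _ _ hk hh, mul_inv_cancel_right]
  let J : Subgroup G :=
    { carrier := {h | h ∈ Fr.H ∧ s * h * s⁻¹ = h⁻¹}
      one_mem' := ⟨Fr.H.one_mem, by simp⟩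
      mul_mem' := fun {x y} ⟨hx, hx'⟩ ⟨hy, hy'⟩ => ⟨Fr.H.mul_mem hx hy, by
        rw [← conj_mul, hx', hy', ← mul_inv_rev, hcomm y x hy hx]⟩
      inv_mem' := fun {x} ⟨hx, hx'⟩ => ⟨Fr.H.inv_mem hx, by rw [← conj_inv, hx']⟩ }
  by_cases hJ : Fr.H ≤ J
  · exact Or.inl fun s' ha' hb' h hh => (hconj s' ha' hb' h hh).trans (hJ hh).2
  right
  have hJle : J ≤ Fr.H := fun x hx => hx.1
  obtain ⟨l, hl, L, hL⟩ : ∃ (l : ℕ) (_ : l.Prime) (L : Sylow l Fr.H),
      ¬ (L : Subgroup Fr.H).map Fr.H.subtype ≤ J := by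
    by_contra! hall
    refine hJ ?_
    have hdvd : Nat.card Fr.H ∣ Nat.card J := by
      rw [Nat.dvd_iff_prime_pow_dvd_dvd]
      intro l k hl hk
      haveI := Fact.mk hl
      obtain ⟨L⟩ : Nonempty (Sylow l Fr.H) := inferInstance
      refine dvd_trans ?_ ((Subgroup.card_map_of_injective Fr.H.subtype_injective).symm.dvd.trans
        (Subgroup.card_dvd_of_le (hall l hl L)))
      rw [L.card_eq_multiplicity]
      exact pow_dvd_pow l ((hl.pow_dvd_iff_le_factorization Nat.card_pos.ne').mp hk)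
    exact (Subgroup.eq_of_le_of_card_ge hJle (Nat.le_of_dvd Nat.card_pos hdvd)).ge
  haveI := Fact.mk hl
  set L' : Subgroup G := (L : Subgroup Fr.H).map Fr.H.subtype with hL'
  have hL'H : L' ≤ Fr.H := Subgroup.map_subtype_le _
  obtain ⟨x₀, hx₀, hx₀J⟩ := Set.not_subset.mp hL
  have hLn : (L : Subgroup Fr.H).Normal := ⟨fun y hy g => by
    have hgy : g * y = y * g := Subtype.ext (hcomm _ _ g.2 y.2)
    rw [hgy, mul_inv_cancel_right]; exact hy⟩
  have hσH : ∀ h ∈ Fr.H, s * h * s⁻¹ ∈ Fr.H := fun h hh => Fr.conj_mem_H hsa hsb hh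
  have hσσ : ∀ h ∈ Fr.H, s * (s * h * s⁻¹) * s⁻¹ = h := by
    intro h hh
    have hs2 : s * s ∈ Fr.H := Fr.mem_H.mpr ⟨by rw [mul_smul, hsa, hsb], by rw [mul_smul, hsb, hsa]⟩
    calc s * (s * h * s⁻¹) * s⁻¹ = (s * s) * h * (s * s)⁻¹ := by group
      _ = h := by rw [hcomm _ _ hs2 hh, mul_inv_cancel_right]
  have hσL : ∀ y ∈ L', s * y * s⁻¹ ∈ L' := by
    rintro _ ⟨y, hy, rfl⟩
    refine ⟨⟨s * (y : G) * s⁻¹, hσH _ y.2⟩, ?_, rfl⟩
    haveI := hLn
    obtain ⟨k, hk⟩ := L.2 ⟨y, hy⟩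
    have hpg : IsPGroup l (Subgroup.zpowers (⟨s * (y : G) * s⁻¹, hσH _ y.2⟩ : Fr.H)) := by
      refine IsPGroup.of_card (n := Nat.log l (orderOf (⟨s * (y : G) * s⁻¹, hσH _ y.2⟩ : Fr.H))) ?_
      rw [Nat.card_zpowers]
      have h1 : orderOf (⟨s * (y : G) * s⁻¹, hσH _ y.2⟩ : Fr.H) ∣ l ^ k := orderOf_dvd_of_pow_eq_one
        (Subtype.ext (by
          rw [SubgroupClass.coe_pow, conj_pow]
          have h2 := congrArg (fun z : (L : Subgroup Fr.H) => ((z : Fr.H) : G)) hk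
          simp only [SubgroupClass.coe_pow, Subgroup.coe_one] at h2
          rw [h2]; simp))
      obtain ⟨i, -, hi⟩ := (Nat.dvd_prime_pow hl).mp h1
      rw [hi, Nat.log_pow hl.one_lt]
    obtain ⟨Q, hQ⟩ := hpg.exists_le_sylow
    haveI : Unique (Sylow l Fr.H) := L.unique_of_normal hLn
    rw [Subsingleton.elim L Q]
    exact hQ (Subgroup.mem_zpowers _)
  haveI hcyc : IsCyclic L' := by
    haveI := Fr.isCyclic_H
    exact isCyclic_of_injective (Subgroup.inclusion hL'H) (Subgroup.inclusion_injective hL'H)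
  have hLpow : ∀ y ∈ L', ∃ k : ℕ, y ^ l ^ k = 1 := by
    rintro _ ⟨y, hy, rfl⟩
    obtain ⟨k, hk⟩ := L.2 ⟨y, hy⟩
    refine ⟨k, ?_⟩
    have h2 := congrArg (fun z : (L : Subgroup Fr.H) => ((z : Fr.H) : G)) hk
    simpa using h2
  have hfixL : ∀ y ∈ L', s * y * s⁻¹ = y := by
    intro y hy
    by_contra hne
    -- a fixed and an inverted element of order `l`
    have hordl : ∀ z ∈ L', z ≠ 1 → ∃ u ∈ Subgroup.zpowers z, orderOf u = l := by
      intro z hz hz1
      obtain ⟨k, hk⟩ := hLpow z hz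
      obtain ⟨i, -, hi⟩ := (Nat.dvd_prime_pow hl).mp (orderOf_dvd_of_pow_eq_one hk)
      have hl_dvd : l ∣ orderOf z := by
        rw [hi]
        refine dvd_pow_self l fun h => hz1 ?_
        rw [h, pow_zero, orderOf_eq_one_iff] at hi
        exact hi
      refine ⟨z ^ (orderOf z / l), Subgroup.npow_mem_zpowers _ _, ?_⟩
      rw [orderOf_pow_of_dvd (Nat.div_pos (Nat.le_of_dvd (orderOf_pos z) hl_dvd) hl.pos).ne'
        (Nat.div_dvd_of_dvd hl_dvd), Nat.div_div_self hl_dvd (orderOf_pos z).ne']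
    have hw0 : x₀ * (s * x₀ * s⁻¹) ≠ 1 := fun h => hx₀J ⟨hL'H hx₀, (inv_eq_of_mul_eq_one_right h).symm⟩
    have hfixw : s * (x₀ * (s * x₀ * s⁻¹)) * s⁻¹ = x₀ * (s * x₀ * s⁻¹) := by
      rw [← conj_mul, hσσ x₀ (hL'H hx₀)]
      exact hcomm _ _ (hσH _ (hL'H hx₀)) (hL'H hx₀)
    have hv0 : y⁻¹ * (s * y * s⁻¹) ≠ 1 := fun h => hne (inv_mul_eq_one.mp h).symm
    have hinvv : s * (y⁻¹ * (s * y * s⁻¹)) * s⁻¹ = (y⁻¹ * (s * y * s⁻¹))⁻¹ := by
      rw [← conj_mul, hσσ y (hL'H hy), mul_inv_rev, inv_inv, ← conj_inv]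
    have hwL : x₀ * (s * x₀ * s⁻¹) ∈ L' := L'.mul_mem hx₀ (hσL _ hx₀)
    have hvL : y⁻¹ * (s * y * s⁻¹) ∈ L' := L'.mul_mem (L'.inv_mem hy) (hσL _ hy)
    obtain ⟨u, hu, huo⟩ := hordl _ hwL hw0
    obtain ⟨u', hu', huo'⟩ := hordl _ hvL hv0
    have hufix : s * u * s⁻¹ = u := by
      obtain ⟨i, rfl⟩ := hu
      show s * _ ^ i * s⁻¹ = _ ^ i
      rw [← conj_zpow, hfixw]
    have hu'inv : s * u' * s⁻¹ = u'⁻¹ := by
      obtain ⟨i, rfl⟩ := hu'
      show s * _ ^ i * s⁻¹ = (_ ^ i)⁻¹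
      rw [← conj_zpow, hinvv, inv_zpow]
    have huL : u ∈ L' := (Subgroup.zpowers_le.mpr hwL) hu
    have hu'L : u' ∈ L' := (Subgroup.zpowers_le.mpr hvL) hu'
    haveI := Fintype.ofFinite L'
    have hsub : (Finset.univ.filter fun x : L' => x ∈ Subgroup.zpowers (⟨u, huL⟩ : L')) ⊆
        Finset.univ.filter fun x : L' => x ^ l = 1 := by
      intro x hx
      simp only [Finset.mem_filter, Finset.mem_univ, true_and] at hx ⊢
      obtain ⟨i, rfl⟩ := hx
      show (_ ^ i) ^ l = 1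
      rw [← zpow_natCast, ← zpow_mul, mul_comm, zpow_mul, zpow_natCast,
        show (⟨u, huL⟩ : L') ^ l = 1 from Subtype.ext (by rw [SubgroupClass.coe_pow, ← huo]; exact pow_orderOf_eq_one u),
        one_zpow]
    have heq := Finset.eq_of_subset_of_card_le hsub (le_trans (IsCyclic.card_pow_eq_one_le hl.pos) (by
      rw [← Fintype.card_subtype, ← Nat.card_eq_fintype_card, Nat.card_zpowers, Subgroup.orderOf_mk, huo]))
    have hmem' : (⟨u', hu'L⟩ : L') ∈ Finset.univ.filter fun x : L' => x ∈ Subgroup.zpowers (⟨u, huL⟩ : L') := by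
      rw [heq]
      simp only [Finset.mem_filter, Finset.mem_univ, true_and]
      exact Subtype.ext (by rw [SubgroupClass.coe_pow, ← huo']; exact pow_orderOf_eq_one u')
    obtain ⟨i, hi⟩ := (Finset.mem_filter.mp hmem').2
    have hi' : u ^ i = u' := congrArg Subtype.val hi
    have h1 : u'⁻¹ = u' := by rw [← hu'inv, ← hi', ← conj_zpow, hufix]
    have h2 : orderOf u' ∣ 2 := orderOf_dvd_of_pow_eq_one (by rw [sq]; nth_rewrite 1 [← h1]; exact inv_mul_cancel _)
    have h3 : orderOf u' ∣ d := by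
      have := Subgroup.orderOf_dvd_natCard Fr.H (hL'H hu'L)
      rwa [Fr.card_H] at this
    rw [huo'] at h2 h3
    exact hl.one_lt.ne' (Nat.eq_one_of_dvd_coprimes ((Nat.prime_two.coprime_iff_not_dvd).mpr hodd.not_two_dvd_nat) h2 h3)
  have hL1 : L' ≠ ⊥ := fun h => by
    rw [SetLike.mem_coe, h, Subgroup.mem_bot] at hx₀
    exact hx₀J (hx₀ ▸ J.one_mem)
  have hLcard : Nat.card L' = l ^ d.factorization l := by
    rw [hL', Subgroup.card_map_of_injective Fr.H.subtype_injective, L.card_eq_multiplicity, Fr.card_H]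
  have hld : l ∣ d := by
    by_contra h
    rw [Nat.factorization_eq_zero_of_not_dvd h, pow_zero] at hLcard
    exact hL1 (Subgroup.card_eq_one.mp hLcard)
  have hl2 : l ≠ 2 := fun h => hodd.not_two_dvd_nat (h ▸ hld)
  have hlp : l ≠ p := fun h => absurd (Nat.le_of_dvd hodd.pos (h ▸ hld)) (by omega)
  have hlp1 : ¬ l ∣ p + 1 := by
    intro h
    have h1 : l ∣ p - 1 := hld.trans Fr.d_dvd
    have h2 := Nat.dvd_sub h h1
    rw [show p + 1 - (p - 1) = 2 by have := hp.two_le; omega] at h2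
    exact hl2 ((Nat.prime_dvd_prime_iff_eq hl Nat.prime_two).mp h2)
  have hfac : (Nat.card G).factorization l = d.factorization l := by
    rw [hG, Nat.factorization_mul (Nat.mul_ne_zero (by omega) hp.ne_zero) hodd.pos.ne', Finsupp.coe_add,
      Pi.add_apply, Nat.factorization_mul (by omega) hp.ne_zero, Finsupp.coe_add, Pi.add_apply,
      Nat.factorization_eq_zero_of_not_dvd hlp1, Nat.factorization_eq_zero_of_not_dvd
        (fun h => hlp ((Nat.prime_dvd_prime_iff_eq hl hp).mp h)), zero_add, zero_add]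
  let P : Sylow l G := Sylow.ofCard L' (by rw [hLcard, hfac])
  have hPL : (P : Subgroup G) = L' := Sylow.coe_ofCard _ _
  have hnc : Subgroup.normalizer ((P : Subgroup G) : Set G) ≤ Subgroup.centralizer ((P : Subgroup G) : Set G) := by
    rw [hPL]
    intro g hg
    obtain ⟨w, hw, hw1⟩ := L'.bot_or_exists_ne_one.resolve_left hL1
    have hpre : g⁻¹ * w * g ∈ L' := (Subgroup.mem_normalizer_iff.mp hg _).mpr (by group; simpa using hw)
    have hmove : ∀ z, (z = Fr.a ∨ z = Fr.b) → g • z = Fr.a ∨ g • z = Fr.b := by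
      intro z hz
      refine Fr.fixed_H (h := ⟨w, hL'H hw⟩) (fun e => hw1 (congrArg Subtype.val e)) ?_
      show w • g • z = g • z
      have hfz : (g⁻¹ * w * g) • z = z := by
        obtain ⟨e1, e2⟩ := Fr.mem_H.mp (hL'H hpre)
        rcases hz with rfl | rfl <;> assumption
      rwa [mul_smul, mul_smul, inv_smul_eq_iff] at hfz
    rw [Subgroup.mem_centralizer_iff]
    intro y hy
    rcases hmove Fr.a (Or.inl rfl) with h1 | h1 <;> rcases hmove Fr.b (Or.inr rfl) with h2 | h2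
    · exact absurd (MulAction.injective g (h1.trans h2.symm)) Fr.a_ne_b
    · exact hcomm y g (hL'H hy) (Fr.mem_H.mpr ⟨h1, h2⟩)
    · have h3 := hconj g h1 h2 y (hL'H hy)
      rw [hfixL y hy, mul_inv_eq_iff_eq_mul] at h3
      exact h3.symm
    · exact absurd (MulAction.injective g (h1.trans h2.symm)) Fr.a_ne_b
  obtain ⟨P', N, hN, hcompl⟩ := hasNormalPComplement_of_normalizer_le_centralizer P hnc
  have hP' : Nat.card P' = Nat.card L' := by rw [P'.card_eq_multiplicity, hLcard, hfac]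
  have hcardN := hcompl.card_mul_card
  rw [hP', hG, hLcard] at hcardN
  have hNmem : ∀ x : G, x ^ p = 1 → x ∈ N := by
    intro x hx
    haveI := hN
    rw [← QuotientGroup.eq_one_iff]
    have h1 : orderOf (QuotientGroup.mk' N x) ∣ p := orderOf_dvd_of_pow_eq_one (by rw [← map_pow, hx, map_one])
    have h2 : orderOf (QuotientGroup.mk' N x) ∣ l ^ d.factorization l := by
      have h3 := orderOf_dvd_natCard (QuotientGroup.mk' N x)
      have h4 : Nat.card (G ⧸ N) = Nat.card P' := hcompl.symm.index_eq_card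
      rwa [h4, hP', hLcard] at h3
    exact orderOf_eq_one_iff.mp (Nat.eq_one_of_dvd_coprimes
      (((Nat.coprime_primes hp hl).mpr hlp.symm).pow_right _) h1 h2)
  obtain ⟨k, hk⟩ := Nat.ordProj_dvd d l
  refine ⟨N, k, transitive_of_normal Fr hN fun m => hNmem _ (tr_pow Fr m), ?_, ⟨l ^ d.factorization l, by
    rw [mul_comm]; exact hk⟩, ?_, hNmem⟩
  · have h0 : 0 < l ^ d.factorization l := pow_pos hl.pos _
    refine Nat.eq_of_mul_eq_mul_right h0 ?_
    rw [hcardN, mul_assoc ((p + 1) * p) k, mul_comm k, ← hk]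
  · have h0 : 2 ≤ l ^ d.factorization l := le_trans hl.two_le
      (Nat.le_self_pow (hl.factorization_pos_of_dvd hodd.pos.ne' hld).ne' l)
    have hd0 := hodd.pos
    rcases Nat.eq_zero_or_pos k with hk0 | hk0
    · rw [hk0, mul_zero] at hk; omega
    · calc k < 2 * k := by omega
        _ ≤ l ^ d.factorization l * k := Nat.mul_le_mul_right k h0
        _ = d := hk.symm

theorem card_pGen {G α : Type*} [Group G] [Fintype G] [MulAction G α] [FaithfulSMul G α]
    [IsPretransitive G α] {p : ℕ} [Fact p.Prime] {d : ℕ} (Fr : Frame G α p d)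
    (hα : Nat.card α = p + 1) (hG : Nat.card G = (p + 1) * p * d) (hodd : Odd d)
    (hsmall : d = 1 ∨ 3 * d ≤ p - 1) : Nat.card (pGen p G) = (p + 1) * p := by
  induction d using Nat.strong_induction_on generalizing G with
  | _ d ih =>
    have hp : p.Prime := Fact.out
    have hdp : d < p := by have := hp.two_le; omega
    haveI : Finite α := Nat.finite_of_card_ne_zero (by omega)
    by_cases hd1 : d = 1
    · have htop : pGen p G = ⊤ := by
        haveI := transitive_of_normal Fr (pGen_normal p G) fun m => mem_pGen (tr_pow Fr m)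
        refine eq_top_iff.mpr fun g _ => ?_
        obtain ⟨t, ht⟩ := exists_smul_eq (pGen p G) Fr.a (g • Fr.a)
        have ht' : ((t : G)⁻¹ * g) • Fr.a = Fr.a := by
          rw [mul_smul, inv_smul_eq_iff]; exact ht.symm
        obtain ⟨m, hm⟩ := Fr.pt_surj (((t : G)⁻¹ * g) • Fr.b) fun e =>
          Fr.a_ne_b (MulAction.injective _ (ht'.trans e.symm))
        have hmem : (Fr.tr m)⁻¹ * ((t : G)⁻¹ * g) ∈ Fr.H := Fr.mem_H.mpr
          ⟨by rw [mul_smul, ht', inv_smul_eq_iff, Fr.tr_a],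
            by rw [mul_smul, ← hm, inv_smul_eq_iff, Frame.b, Fr.tr_pt, zero_add]⟩
        have hbot : Fr.H = ⊥ := Subgroup.card_eq_one.mp (Fr.card_H.trans hd1)
        rw [hbot, Subgroup.mem_bot, inv_mul_eq_one] at hmem
        rw [show g = (t : G) * Fr.tr m by rw [hmem, mul_inv_cancel_left]]
        exact (pGen p G).mul_mem t.2 (mem_pGen (tr_pow Fr m))
      rw [htop, Subgroup.card_top, hG, hd1, mul_one]
    have hd3 := hsmall.resolve_left hd1
    have hd2 : 2 ≤ d := by have := hodd.pos; omega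
    rcases inverted_or_reduce Fr hα hG hdp hodd with hinv | ⟨N, d', htrans, hN, hdvd, hlt, hmem⟩
    · exact (not_inverted Fr hα hG hd2 hodd hinv hd3).elim
    · haveI := htrans
      haveI := Fintype.ofFinite N
      obtain ⟨Fr', -⟩ := exists_frame (G := N) hα hN (by omega) Fr.a
      have hcard := ih d' hlt Fr' hN (hodd.of_dvd_nat hdvd) (Or.inr (by omega))
      rw [← hcard, ← Subgroup.card_map_of_injective (K := pGen p N) N.subtype_injective]
      suffices h : pGen p G = (pGen p N).map N.subtype by rw [h]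
      rw [pGen, pGen, MonoidHom.map_closure]
      refine congrArg Subgroup.closure (Set.ext fun x => ⟨fun hx => ⟨⟨x, hmem x hx⟩, Subtype.ext hx, rfl⟩, ?_⟩)
      rintro ⟨y, hy, rfl⟩
      exact congrArg Subtype.val hy

end CfsgLib.SmallGroups.PrimePlusOne
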