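import Cfsg.Prelude.Def_Perm
import Cfsg.Agent.Lib.SmallGroups.PrimePlusOne.Structure
import Cfsg.Agent.Lib.SmallGroups.SharplyTwoTransitive
import Mathlib

/-!
If the elements of order `p` of a transitive group of order `(p + 1) * p * d` on `p + 1` points
generate a group of order `(p + 1) * p`, then `p + 1 = 2 ^ q` and the group is semiaffine over the
field with `2 ^ q` elements.
-/

set_option autoImplicit false

namespace CfsgLib.SmallGroups.PrimePlusOne

open MulAction

theorem semiaffine_of_small {G α : Type*} [Group G] [Finite G] [MulAction G α] [FaithfulSMul G α]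
    [IsPretransitive G α] {p d : ℕ} [Fact p.Prime] (Fr : Frame G α p d) (hα : Nat.card α = p + 1)
    (hp2 : p ≠ 2) (hM : Nat.card (pGen p G) = (p + 1) * p) :
    ∃ q : ℕ, q.Prime ∧ p + 1 = 2 ^ q ∧ (d = 1 ∨ d = q) ∧
      ∃ e : α ≃ GaloisField 2 q, ∀ g : G,
        (e.symm.trans ((toPerm g : Equiv.Perm α).trans e)) ∈ Cfsg.semiaffineGroup (GaloisField 2 q) := by
  classical
  have hp : p.Prime := Fact.out
  haveI : Fact (Nat.Prime 2) := ⟨Nat.prime_two⟩
  haveI : Finite α := Nat.finite_of_card_ne_zero (by omega)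
  set M := pGen p G with hMdef
  haveI hMn : M.Normal := pGen_normal p G
  have htrM : ∀ m, Fr.tr m ∈ M := fun m => mem_pGen (tr_pow Fr m)
  haveI hMt : IsPretransitive M α := transitive_of_normal Fr hMn htrM
  -- the stabiliser in `M` consists of translations
  have hMstab : ∀ g ∈ M, g • Fr.a = Fr.a → ∃ m, Fr.tr m = g := by
    have hcard : Nat.card (stabilizer M Fr.a) = p := by
      have h := (stabilizer M Fr.a).index_mul_card
      rw [index_stabilizer_of_transitive M Fr.a, hα, hM] at h
      exact Nat.eq_of_mul_eq_mul_left (by omega) h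
    let f : ZMod p → stabilizer M Fr.a := fun m => ⟨⟨Fr.tr m, htrM m⟩, Fr.tr_a m⟩
    have hf : Function.Bijective f := Function.Injective.bijective_of_nat_card_le
      (fun m n h => tr_injective Fr (congrArg (fun z : stabilizer M Fr.a => ((z : M) : G)) h))
      (by rw [hcard, Nat.card_zmod])
    intro g hg hga
    obtain ⟨m, hm⟩ := hf.2 ⟨⟨g, hg⟩, hga⟩
    exact ⟨m, congrArg (fun z : stabilizer M Fr.a => ((z : M) : G)) hm⟩
  have hsharp : SharplyTwoTransitive.IsSharp M α := by
    have key : ∀ x y : α, x ≠ y → ∃ g : M, (g : G) • x = Fr.a ∧ (g : G) • y = Fr.b := by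
      intro x y hxy
      obtain ⟨g, hg⟩ := exists_smul_eq M x Fr.a
      have hg' : (g : G) • x = Fr.a := hg
      obtain ⟨m, hm⟩ := Fr.pt_surj ((g : G) • y) fun e => hxy (MulAction.injective (g : G) (hg'.trans e.symm))
      refine ⟨⟨(Fr.tr m)⁻¹, M.inv_mem (htrM m)⟩ * g, ?_, ?_⟩ <;> rw [Subgroup.coe_mul, mul_smul]
      · rw [hg', inv_smul_eq_iff, Fr.tr_a]
      · rw [← hm, inv_smul_eq_iff, Frame.b, Fr.tr_pt, zero_add]
    refine ⟨?_, ?_⟩
    · rw [is_two_pretransitive_iff]
      intro x y x' y' hxy hxy'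
      obtain ⟨g, g1, g2⟩ := key x y hxy
      obtain ⟨g', g1', g2'⟩ := key x' y' hxy'
      refine ⟨g'⁻¹ * g, ?_, ?_⟩
      · show ((g'⁻¹ * g : M) : G) • x = x'
        rw [Subgroup.coe_mul, Subgroup.coe_inv, mul_smul, g1, ← g1', inv_smul_smul]
      · show ((g'⁻¹ * g : M) : G) • y = y'
        rw [Subgroup.coe_mul, Subgroup.coe_inv, mul_smul, g2, ← g2', inv_smul_smul]
    · intro g x y hxy hx hy
      obtain ⟨t, t1, t2⟩ := key x y hxy
      have h1 : ((t : G) * g * (t : G)⁻¹) • Fr.a = Fr.a := by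
        rw [← t1, mul_smul, inv_smul_smul, mul_smul, (show (g : G) • x = x from hx)]
      have h2 : ((t : G) * g * (t : G)⁻¹) • Fr.b = Fr.b := by
        rw [← t2, mul_smul, inv_smul_smul, mul_smul, (show (g : G) • y = y from hy)]
      obtain ⟨m, hm⟩ := hMstab _ (M.mul_mem (M.mul_mem t.2 g.2) (M.inv_mem t.2)) h1
      rw [← hm, Frame.b, Fr.tr_pt, zero_add] at h2
      rw [Fr.pt_inj h2, tr_zero] at hm
      exact Subtype.ext (conj_eq_one_iff.mp hm.symm)
  obtain ⟨r, q, K, hr, hq1, hαq, hKcard, hKn, hKc, hKp, hKt, hKf, hKiff⟩ :=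
    SharplyTwoTransitive.exists_kernel hsharp (by rw [hα]; have := hp.pos; omega)
  have hr2 : r = 2 := by
    have h1 : Even (p + 1) := (hp.odd_of_ne_two hp2).add_one
    have h2 : 2 ∣ r ^ q := by rw [← hαq, hα]; exact even_iff_two_dvd.mp h1
    exact ((Nat.prime_dvd_prime_iff_eq Nat.prime_two hr).mp (Nat.prime_two.dvd_of_dvd_pow h2)).symm
  subst hr2
  have hpq : p + 1 = 2 ^ q := by rw [← hαq, hα]
  have hq : q.Prime := by
    refine (Nat.prime_of_pow_sub_one_prime (a := 2) (fun h => ?_) ?_).2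
    · subst h
      rw [pow_one] at hpq
      exact hp.ne_one (by omega)
    · rw [show 2 ^ q - 1 = p by omega]; exact hp
  -- the regular normal subgroup of `G`
  set V : Subgroup G := K.map M.subtype with hV
  have hVn : ∀ g : G, ∀ k ∈ V, g * k * g⁻¹ ∈ V := by
    rintro g _ ⟨k, hk, rfl⟩
    refine ⟨⟨g * (k : G) * g⁻¹, hMn.conj_mem _ k.2 g⟩, (hKiff _).mpr ?_, rfl⟩
    rcases (hKiff k).mp hk with h | h
    · exact Or.inl (Subtype.ext (by rw [h]; simp))
    · refine Or.inr fun x hx => h (g⁻¹ • x) ?_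
      have hx' : (g * (k : G) * g⁻¹) • x = x := hx
      show (k : G) • (g⁻¹ • x) = g⁻¹ • x
      rw [eq_inv_smul_iff, ← mul_smul, ← mul_smul, hx']
  have hVc : ∀ x ∈ V, ∀ y ∈ V, x * y = y * x := by
    rintro _ ⟨x, hx, rfl⟩ _ ⟨y, hy, rfl⟩
    exact congrArg Subtype.val (hKc x hx y hy)
  have hVfree : ∀ x ∈ V, ∀ y : α, x • y = y → x = 1 := by
    rintro _ ⟨x, hx, rfl⟩ y hy
    have h : (⟨x, hx⟩ : K) ∈ stabilizer K y := hy
    rw [hKf y, Subgroup.mem_bot] at h
    exact congrArg (fun z : K => ((z : M) : G)) h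
  have hVtr : ∀ y : α, ∃ x ∈ V, x • Fr.a = y := by
    intro y
    obtain ⟨k, hk⟩ := exists_smul_eq K Fr.a y
    exact ⟨((k : M) : G), ⟨k, k.2, rfl⟩, hk⟩
  letI : CommGroup V :=
    { (inferInstance : Group V) with mul_comm := fun x y => Subtype.ext (hVc _ x.2 _ y.2) }
  let pt' : Additive V → α := fun v => ((Additive.toMul v : V) : G) • Fr.a
  have hpt'inj : Function.Injective pt' := by
    intro m n h
    have h1 : ((((Additive.toMul m)⁻¹ * Additive.toMul n : V)) : G) • Fr.a = Fr.a := by
      rw [Subgroup.coe_mul, Subgroup.coe_inv, mul_smul, inv_smul_eq_iff]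
      exact h.symm
    exact Additive.toMul.injective (inv_mul_eq_one.mp (Subtype.ext
      (hVfree _ ((Additive.toMul m)⁻¹ * Additive.toMul n : V).2 _ h1)))
  have hpt'surj : ∀ y, ∃ v, pt' v = y := fun y => by
    obtain ⟨x, hx, hxy⟩ := hVtr y
    exact ⟨Additive.ofMul ⟨x, hx⟩, hxy⟩
  have hpt'0 : pt' 0 = Fr.a := one_smul G Fr.a
  have hpt'add : ∀ m n, pt' (m + n) = ((Additive.toMul m : V) : G) • pt' n := fun m n => by
    show ((Additive.toMul m * Additive.toMul n : V) : G) • Fr.a = _
    rw [Subgroup.coe_mul, mul_smul]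
  let conj : G → AddMonoid.End (Additive V) := fun g =>
    { toFun := fun m => Additive.ofMul (⟨g * ((Additive.toMul m : V) : G) * g⁻¹,
        hVn g _ (Additive.toMul m).2⟩ : V)
      map_zero' := by
        apply Additive.toMul.injective
        refine Subtype.ext ?_
        show g * ((1 : V) : G) * g⁻¹ = ((1 : V) : G)
        rw [Subgroup.coe_one, mul_one, mul_inv_cancel]
      map_add' := fun m n => by
        apply Additive.toMul.injective
        refine Subtype.ext ?_
        show g * ((Additive.toMul m * Additive.toMul n : V) : G) * g⁻¹ =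
          (g * ((Additive.toMul m : V) : G) * g⁻¹) * (g * ((Additive.toMul n : V) : G) * g⁻¹)
        rw [Subgroup.coe_mul]
        group }
  have hconj : ∀ g : G, g • Fr.a = Fr.a → ∀ m, pt' (conj g m) = g • pt' m := fun g hg m => by
    show (g * ((Additive.toMul m : V) : G) * g⁻¹) • Fr.a = g • _
    rw [mul_smul, mul_smul, inv_smul_eq_iff.mpr hg.symm]
  have hconj_mul : ∀ g h, conj (g * h) = conj g * conj h := fun g h => AddMonoidHom.ext fun m => by
    apply Additive.toMul.injective
    refine Subtype.ext ?_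
    show g * h * ((Additive.toMul m : V) : G) * (g * h)⁻¹ = g * (h * ((Additive.toMul m : V) : G) * h⁻¹) * g⁻¹
    group
  have hconj_one : conj 1 = 1 := AddMonoidHom.ext fun m => by
    apply Additive.toMul.injective
    refine Subtype.ext ?_
    show 1 * ((Additive.toMul m : V) : G) * 1⁻¹ = ((Additive.toMul m : V) : G)
    group
  let gens : Set (AddMonoid.End (Additive V)) := Set.range fun y => conj (Fr.tr y)
  have hgcomm : ∀ x ∈ gens, ∀ y ∈ gens, x * y = y * x := by
    rintro _ ⟨x, rfl⟩ _ ⟨y, rfl⟩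
    show conj _ * conj _ = conj _ * conj _
    rw [← hconj_mul, ← hconj_mul, ← tr_add, ← tr_add, add_comm]
  set R := Subring.closure gens with hR
  letI : CommRing R := Subring.closureCommRingOfComm hgcomm
  have hgen : ∀ y, conj (Fr.tr y) ∈ R := fun y => Subring.subset_closure ⟨y, rfl⟩
  obtain ⟨one', hone⟩ := hpt'surj Fr.b
  have htrH : ∀ m, m ≠ 0 → ∃ y, conj (Fr.tr y) one' = m := by
    intro m hm
    obtain ⟨x, hx⟩ := Fr.pt_surj (pt' m) fun e => hm (hpt'inj (e.trans hpt'0.symm))
    refine ⟨x, hpt'inj ?_⟩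
    rw [hconj _ (Fr.tr_a x), hone, Frame.b, Fr.tr_pt, zero_add, hx]
  have hone0 : one' ≠ 0 := fun e => Fr.a_ne_b (hpt'0.symm.trans ((congrArg pt' e.symm).trans hone))
  let ev : R → Additive V := fun r => (r : AddMonoid.End (Additive V)) one'
  have hcommR : ∀ (r : R) y m, (r : AddMonoid.End (Additive V)) (conj (Fr.tr y) m) =
      conj (Fr.tr y) ((r : AddMonoid.End (Additive V)) m) := by
    intro r y m
    exact DFunLike.congr_fun (congrArg Subtype.val (mul_comm r (⟨_, hgen y⟩ : R))) m
  have hevinj : Function.Injective ev := by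
    intro x x' h
    refine Subtype.ext (AddMonoidHom.ext fun m => ?_)
    by_cases hm : m = 0
    · subst hm
      exact ((x : AddMonoid.End (Additive V)).map_zero).trans ((x' : AddMonoid.End (Additive V)).map_zero).symm
    obtain ⟨y, rfl⟩ := htrH m hm
    exact (hcommR x y one').trans ((congrArg (conj (Fr.tr y)) h).trans (hcommR x' y one').symm)
  have hevsurj : Function.Surjective ev := by
    intro m
    by_cases hm : m = 0
    · exact ⟨0, hm.symm⟩
    obtain ⟨y, hy⟩ := htrH m hm
    exact ⟨⟨_, hgen y⟩, hy⟩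
  haveI : Finite R := Finite.of_injective ev hevinj
  have hfield : IsField R := by
    refine ⟨⟨0, 1, fun e => hone0 (congrArg ev e).symm⟩, fun x y => mul_comm x y, fun {x} hx => ?_⟩
    obtain ⟨y, hy⟩ := htrH (ev x) fun h => hx (hevinj (h.trans rfl))
    have hxy : x = ⟨_, hgen y⟩ := hevinj hy.symm
    refine ⟨⟨_, hgen (-y)⟩, Subtype.ext ?_⟩
    rw [hxy]
    show conj (Fr.tr y) * conj (Fr.tr (-y)) = 1
    rw [← hconj_mul, ← tr_add, add_neg_cancel, tr_zero, hconj_one]
  have hRcard : Nat.card R = 2 ^ q := by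
    rw [Nat.card_congr (Equiv.ofBijective ev ⟨hevinj, hevsurj⟩),
      Nat.card_congr (Equiv.ofBijective pt' ⟨hpt'inj, hpt'surj⟩), hα, hpq]
  letI : Field R := hfield.toField
  letI : Fintype (GaloisField 2 q) := Fintype.ofFinite _
  letI : Fintype R := Fintype.ofFinite _
  have hcF : Fintype.card (GaloisField 2 q) = Fintype.card R := by
    rw [← Nat.card_eq_fintype_card, ← Nat.card_eq_fintype_card, GaloisField.card 2 q hq.ne_zero, hRcard]
  let θF : GaloisField 2 q ≃+* R := FiniteField.ringEquivOfCardEq hcF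
  let E : GaloisField 2 q ≃ α := Equiv.ofBijective (fun t => pt' (ev (θF t)))
    ⟨fun t t' h => θF.injective (hevinj (hpt'inj h)), fun y => by
      obtain ⟨v, rfl⟩ := hpt'surj y
      obtain ⟨x, rfl⟩ := hevsurj v
      exact ⟨θF.symm x, by show pt' (ev (θF (θF.symm x))) = pt' (ev x); rw [θF.apply_symm_apply]⟩⟩
  -- the point stabiliser acts semilinearly
  have hsemi : ∀ g : G, g • Fr.a = Fr.a →
      ∃ (ψ : GaloisField 2 q ≃+* GaloisField 2 q) (c : GaloisField 2 q), c ≠ 0 ∧
        ∀ t, g • E t = E (c * ψ t) := by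
    intro g hg
    have hgg : conj g * conj g⁻¹ = 1 := by rw [← hconj_mul, mul_inv_cancel, hconj_one]
    have hgg' : conj g⁻¹ * conj g = 1 := by rw [← hconj_mul, inv_mul_cancel, hconj_one]
    have hR' : ∀ x ∈ R, conj g * x * conj g⁻¹ ∈ R := by
      intro x hx
      induction hx using Subring.closure_induction with
      | mem z hz =>
        obtain ⟨y, rfl⟩ := hz
        obtain ⟨m, hm⟩ := hMstab (g * Fr.tr y * g⁻¹) (hMn.conj_mem _ (htrM y) g) (by
          rw [mul_smul, mul_smul, inv_smul_eq_iff.mpr hg.symm, Fr.tr_a, hg])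
        show conj g * conj (Fr.tr y) * conj g⁻¹ ∈ R
        rw [← hconj_mul, ← hconj_mul, ← hm]
        exact hgen m
      | zero => rw [mul_zero, zero_mul]; exact R.zero_mem
      | one => rw [mul_one, hgg]; exact R.one_mem
      | add x y _ _ hx hy => rw [mul_add, add_mul]; exact R.add_mem hx hy
      | neg x _ hx =>
        have hn : conj g * -x * conj g⁻¹ = -(conj g * x * conj g⁻¹) :=
          AddMonoidHom.ext fun m => (map_neg (conj g) (x (conj g⁻¹ m))).trans rfl
        rw [hn]; exact R.neg_mem hx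
      | mul x y _ _ hx hy =>
        have : conj g * (x * y) * conj g⁻¹ = (conj g * x * conj g⁻¹) * (conj g * y * conj g⁻¹) := by
          simp only [mul_assoc]
          rw [← mul_assoc (conj g⁻¹) (conj g), hgg', one_mul]
        rw [this]; exact R.mul_mem hx hy
    let ψR : R →+* R :=
      { toFun := fun x => ⟨conj g * (x : AddMonoid.End (Additive V)) * conj g⁻¹, hR' _ x.2⟩
        map_one' := Subtype.ext (by
          show conj g * 1 * conj g⁻¹ = 1
          rw [mul_one, hgg])
        map_zero' := Subtype.ext (by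
          show conj g * 0 * conj g⁻¹ = 0
          rw [mul_zero, zero_mul])
        map_add' := fun x y => Subtype.ext (by
          show conj g * ((x : AddMonoid.End (Additive V)) + y) * conj g⁻¹ =
            conj g * (x : AddMonoid.End (Additive V)) * conj g⁻¹ + conj g * (y : AddMonoid.End (Additive V)) * conj g⁻¹
          rw [mul_add, add_mul])
        map_mul' := fun x y => Subtype.ext (by
          show conj g * ((x : AddMonoid.End (Additive V)) * y) * conj g⁻¹ =
            (conj g * (x : AddMonoid.End (Additive V)) * conj g⁻¹) * (conj g * (y : AddMonoid.End (Additive V)) * conj g⁻¹)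
          simp only [mul_assoc]
          rw [← mul_assoc (conj g⁻¹) (conj g), hgg', one_mul]) }
    let ψ : GaloisField 2 q →+* GaloisField 2 q :=
      (θF.symm : R →+* GaloisField 2 q).comp (ψR.comp (θF : GaloisField 2 q →+* R))
    obtain ⟨rc, hrc⟩ := hevsurj (conj g one')
    refine ⟨RingEquiv.ofBijective ψ (Finite.injective_iff_bijective.mp ψ.injective), θF.symm rc, ?_, fun t => ?_⟩
    · intro h
      have h1 : rc = 0 := θF.symm.injective (h.trans (map_zero θF.symm).symm)
      have h2 : conj g one' = 0 := by rw [← hrc, h1]; rfl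
      have h3 := congrArg pt' h2
      rw [hconj g hg, hone, hpt'0] at h3
      exact Fr.a_ne_b (MulAction.injective g (hg.trans h3.symm))
    · show g • pt' (ev (θF t)) = pt' (ev (θF (θF.symm rc * θF.symm (ψR (θF t)))))
      rw [map_mul, RingEquiv.apply_symm_apply, RingEquiv.apply_symm_apply, ← hconj g hg]
      congr 1
      rw [mul_comm rc]
      show conj g ((θF t : AddMonoid.End (Additive V)) one') =
        (conj g * (θF t : AddMonoid.End (Additive V)) * conj g⁻¹) (ev rc)
      rw [hrc]
      show conj g ((θF t : AddMonoid.End (Additive V)) one') =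
        conj g ((θF t : AddMonoid.End (Additive V)) ((conj g⁻¹ * conj g) one'))
      rw [hgg']
      rfl
  refine ⟨q, hq, hpq, ?_, E.symm, fun g => ?_⟩
  · -- the two point stabiliser embeds in the Galois group
    have hE1 : E 1 = Fr.b := by
      show pt' (ev (θF 1)) = Fr.b
      rw [map_one]
      exact hone
    have hH : ∀ h : Fr.H, ∃ ψ : GaloisField 2 q ≃+* GaloisField 2 q, ∀ t, (h : G) • E t = E (ψ t) := by
      intro h
      obtain ⟨ψ, c, -, hψ⟩ := hsemi h (Fr.mem_H.mp h.2).1
      have hc : c = 1 := by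
        have h1 := hψ 1
        rw [map_one ψ, mul_one, hE1, (Fr.mem_H.mp h.2).2] at h1
        exact E.injective (h1.symm.trans hE1.symm)
      exact ⟨ψ, fun t => by rw [hψ, hc, one_mul]⟩
    choose ψ hψ using hH
    let Φ : Fr.H →* (GaloisField 2 q ≃ₐ[ZMod 2] GaloisField 2 q) :=
      { toFun := fun h => AlgEquiv.ofRingEquiv (f := ψ h) fun x =>
          DFunLike.congr_fun (RingHom.ext_zmod (((ψ h) : GaloisField 2 q →+* GaloisField 2 q).comp
            (algebraMap (ZMod 2) (GaloisField 2 q))) (algebraMap (ZMod 2) (GaloisField 2 q))) x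
        map_one' := AlgEquiv.ext fun t => E.injective (by
          show E (ψ 1 t) = E t
          rw [← hψ, Subgroup.coe_one, one_smul])
        map_mul' := fun g h => AlgEquiv.ext fun t => E.injective (by
          show E (ψ (g * h) t) = E (ψ g (ψ h t))
          rw [← hψ, ← hψ, ← hψ, Subgroup.coe_mul, mul_smul]) }
    have hΦ : Function.Injective Φ := fun g h e => by
      refine Subtype.ext (eq_of_smul_eq_smul fun y : α => ?_)
      obtain ⟨t, rfl⟩ := E.surjective y
      rw [hψ, hψ]
      exact congrArg E (DFunLike.congr_fun e t)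
    have hdvd := Subgroup.card_dvd_of_injective Φ hΦ
    rw [Fr.card_H, IsGalois.card_aut_eq_finrank, GaloisField.finrank 2 hq.ne_zero] at hdvd
    exact (Nat.dvd_prime hq).mp hdvd
  · obtain ⟨v, hv⟩ := hpt'surj (g • Fr.a)
    set k : G := ((Additive.toMul v : V) : G) with hk
    have hk' : k • Fr.a = g • Fr.a := hv
    obtain ⟨ψ, c, hc, hψ⟩ := hsemi (k⁻¹ * g) (by rw [mul_smul, ← hk', inv_smul_smul])
    obtain ⟨x, hx⟩ := hevsurj v
    refine ⟨Units.mk0 c hc, θF.symm x, ψ, fun t => ?_⟩
    show E.symm (g • E t) = c * ψ t + θF.symm x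
    rw [Equiv.symm_apply_eq, ← mul_inv_cancel_left k g, mul_smul, hψ]
    show k • pt' (ev (θF (c * ψ t))) = pt' (ev (θF (c * ψ t + θF.symm x)))
    rw [map_add, RingEquiv.apply_symm_apply, add_comm (θF _)]
    show _ = pt' (ev x + ev (θF (c * ψ t)))
    rw [hx, hpt'add]

end CfsgLib.SmallGroups.PrimePlusOne
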