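import Cfsg.Agent.Lib.SmallGroups.PrimePlusOne.Setup
import Cfsg.Agent.Lib.Classical.Dickson.PGLPoints
import Cfsg.Agent.Lib.Classical.Dickson.MinIndex
import Cfsg.Agent.Lib.Classical.SL2Line
import Mathlib

/-!
Recognition of `PSL(2, p)` among the transitive groups of order `(p + 1) * p * (p - 1) / 2` on
`p + 1` points, and the treatment of a two-point stabiliser of even order.
-/

set_option autoImplicit false

namespace CfsgLib.SmallGroups.PrimePlusOne

open MulAction CfsgLib.Transfer CfsgLib.Classical.Dickson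
open scoped LinearAlgebra.Projectivization MatrixGroups

variable {G α : Type*} [Group G] [MulAction G α] {p d : ℕ} [Fact p.Prime] [FaithfulSMul G α]

theorem mk_mem_range {F : Type*} [Field F] (A : GL (Fin 2) F) {k : F}
    (hk : k * k = (A : Matrix (Fin 2) (Fin 2) F).det) :
    Matrix.ProjGenLinGroup.mk A ∈
      (Matrix.ProjectiveSpecialLinearGroup.toPGL (n := Fin 2) (R := F)).range := by
  have hk0 : k ≠ 0 := by
    rintro rfl
    rw [mul_zero] at hk
    exact (Matrix.isUnit_iff_isUnit_det _).mp A.isUnit |>.ne_zero hk.symm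
  have hdet : (k⁻¹ • (A : Matrix (Fin 2) (Fin 2) F)).det = 1 := by
    rw [Matrix.det_smul, Fintype.card_fin, ← hk]
    field_simp
  refine ⟨QuotientGroup.mk ⟨k⁻¹ • (A : Matrix (Fin 2) (Fin 2) F), hdet⟩, ?_⟩
  show Matrix.ProjGenLinGroup.mk (Matrix.SpecialLinearGroup.toGL _) = Matrix.ProjGenLinGroup.mk A
  rw [Matrix.ProjGenLinGroup.mk_eq_mk_iff]
  refine ⟨Units.mk0 k hk0, Units.ext ?_⟩
  ext i j
  simp [Matrix.mul_apply, Matrix.GeneralLinearGroup.scalar, Matrix.scalar_apply, Matrix.diagonal,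
    Matrix.SpecialLinearGroup.toGL]
  field_simp

theorem pow_d (Fr : Frame G α p d) (h : Fr.H) : h ^ d = 1 := by
  have h1 := pow_card_eq_one' (G := Fr.H) (x := h)
  rwa [Fr.card_H] at h1

theorem pow_d_of_range (Fr : Frame G α p d) {t : (ZMod p)ˣ} (ht : t ∈ Fr.mult.range) : t ^ d = 1 := by
  obtain ⟨h, rfl⟩ := ht
  rw [← map_pow, pow_d Fr h, map_one]

theorem range_of_pow_d [Finite G] (Fr : Frame G α p d) {t : (ZMod p)ˣ} (ht : t ^ d = 1) :
    t ∈ Fr.mult.range := by
  classical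
  have hd0 : 0 < d := by rw [← Fr.card_H]; exact Nat.card_pos
  have hsub : (Finset.univ.filter fun u => u ∈ Fr.mult.range) ⊆
      Finset.univ.filter fun u : (ZMod p)ˣ => u ^ d = 1 := fun u hu => by
    simp only [Finset.mem_filter, Finset.mem_univ, true_and] at hu ⊢
    exact pow_d_of_range Fr hu
  have hcard : (Finset.univ.filter fun u => u ∈ Fr.mult.range).card = d := by
    rw [← Fintype.card_subtype, ← Nat.card_eq_fintype_card]
    exact (Nat.card_congr (MonoidHom.ofInjective Fr.mult_injective).toEquiv).symm.trans Fr.card_H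
  have := Finset.eq_of_subset_of_card_le hsub (by rw [hcard]; exact IsCyclic.card_pow_eq_one_le hd0)
  have h : t ∈ Finset.univ.filter fun u => u ∈ Fr.mult.range := by
    rw [this]; simpa using ht
  simpa using h

theorem isSquare_of_range (Fr : Frame G α p d) (hd : 2 * d = p - 1) {t : (ZMod p)ˣ}
    (ht : t ∈ Fr.mult.range) : IsSquare (t : ZMod p) := by
  have h2 : p / 2 = d := by
    have := (Fact.out : p.Prime).two_le
    omega
  rw [ZMod.euler_criterion p t.ne_zero, h2, ← Units.val_pow_eq_pow_val, pow_d_of_range Fr ht,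
    Units.val_one]

theorem psl_of_inversion [Finite G] (Fr : Frame G α p d) (hα : Nat.card α = p + 1)
    (hG : Nat.card G = (p + 1) * p * d) (hd : 2 * d = p - 1) {s : G} {e : ZMod p}
    (hsa : s • Fr.a = Fr.b) (hsb : s • Fr.b = Fr.a)
    (hs : ∀ x, x ≠ 0 → s • Fr.pt x = Fr.pt (e / x)) (he : IsSquare (-e)) (he0 : e ≠ 0) :
    Nonempty (G ≃* Matrix.ProjectiveSpecialLinearGroup (Fin 2) (ZMod p)) := by
  classical
  haveI : Finite α := Nat.finite_of_card_ne_zero (by omega)
  let ι : ℙ (ZMod p) (Fin 2 → ZMod p) → α := fun x =>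
    if h : ∃ t, x = linePt t then Fr.pt h.choose else Fr.a
  have hιi : ι lineInf = Fr.a := dif_neg fun ⟨t, ht⟩ => lineInf_ne_linePt t ht
  have hιp : ∀ t, ι (linePt t) = Fr.pt t := fun t => by
    have h : ∃ u, (linePt t : ℙ (ZMod p) (Fin 2 → ZMod p)) = linePt u := ⟨t, rfl⟩
    show dite _ _ _ = _
    rw [dif_pos h, ← linePt_inj h.choose_spec]
  have hιsurj : ∀ y, ∃ x, ι x = y := fun y => by
    by_cases hy : y = Fr.a
    · exact ⟨lineInf, hιi.trans hy.symm⟩
    · obtain ⟨t, ht⟩ := Fr.pt_surj y hy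
      exact ⟨linePt t, (hιp t).trans ht⟩
  have hιinj : Function.Injective ι := by
    intro x y h
    rcases line_cases x with rfl | ⟨t, rfl⟩ <;> rcases line_cases y with rfl | ⟨u, rfl⟩
    · rfl
    · rw [hιi, hιp] at h; exact absurd h.symm (Fr.pt_ne u)
    · rw [hιi, hιp] at h; exact absurd h (Fr.pt_ne t)
    · rw [hιp, hιp] at h; rw [Fr.pt_inj h]
  let R := (Matrix.ProjectiveSpecialLinearGroup.toPGL (n := Fin 2) (R := ZMod p)).range
  let Comp : G → Matrix.ProjGenLinGroup (Fin 2) (ZMod p) → Prop := fun g u => ∀ x, g • ι x = ι (u • x)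
  have hCmul : ∀ g h u v, Comp g u → Comp h v → Comp (g * h) (u * v) := fun g h u v hg hh x => by
    rw [mul_smul, mul_smul, hh, hg]
  let S : Subgroup G :=
    { carrier := {g | ∃ u ∈ R, Comp g u}
      one_mem' := ⟨1, R.one_mem, fun x => by rw [one_smul, one_smul]⟩
      mul_mem' := fun {g h} ⟨u, hu', hu⟩ ⟨v, hv', hv⟩ => ⟨u * v, R.mul_mem hu' hv', hCmul g h u v hu hv⟩
      inv_mem' := fun {g} ⟨u, hu', hu⟩ => ⟨u⁻¹, R.inv_mem hu',
        fun x => by rw [inv_smul_eq_iff, hu, smul_inv_smul]⟩ }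
  have hext : ∀ {g : G} {u : Matrix.ProjGenLinGroup (Fin 2) (ZMod p)}, u ∈ R →
      g • Fr.a = ι (u • lineInf) → (∀ t, g • Fr.pt t = ι (u • linePt t)) → g ∈ S := by
    intro g u hu h1 h2
    refine ⟨u, hu, fun x => ?_⟩
    rcases line_cases x with rfl | ⟨t, rfl⟩
    · rw [hιi]; exact h1
    · rw [hιp]; exact h2 t
  have haff : ∀ (t : (ZMod p)ˣ) m, IsSquare (t : ZMod p) → aff t m ∈ R := by
    intro t m ⟨k, hk⟩
    exact mk_mem_range _ (k := k) (by
      simp [Matrix.GeneralLinearGroup.mkOfDetNeZero, Matrix.det_fin_two, hk])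
  have hK : ∀ m, Fr.tr m ∈ S := fun m => hext (haff 1 m ⟨1, by simp⟩)
    (by rw [aff_smul_inf, hιi, Fr.tr_a])
    (fun t => by rw [aff_smul_pt, hιp, Units.val_one, one_mul, Fr.tr_pt])
  have hH : ∀ h ∈ Fr.H, h ∈ S := fun h hh =>
    hext (haff (Fr.mult ⟨h, hh⟩) 0 (isSquare_of_range Fr hd ⟨⟨h, hh⟩, rfl⟩))
      (by rw [aff_smul_inf, hιi, (Fr.mem_H.mp hh).1])
      (fun t => by rw [aff_smul_pt, hιp, add_zero]; exact Fr.smul_H ⟨h, hh⟩ t)
  have hsS : s ∈ S := by
    have hdet : (!![(0 : ZMod p), e; 1, 0]).det ≠ 0 := by simp [Matrix.det_fin_two, he0]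
    obtain ⟨k, hk⟩ := he
    refine hext (u := Matrix.ProjGenLinGroup.mk
      (Matrix.GeneralLinearGroup.mkOfDetNeZero !![(0 : ZMod p), e; 1, 0] hdet))
      (mk_mem_range _ (k := k) (by
        simp [Matrix.GeneralLinearGroup.mkOfDetNeZero, Matrix.det_fin_two, hk])) ?_ fun t => ?_
    · rw [show Matrix.ProjGenLinGroup.mk (Matrix.GeneralLinearGroup.mkOfDetNeZero !![(0 : ZMod p), e; 1, 0] hdet) •
          (lineInf : ℙ (ZMod p) (Fin 2 → ZMod p)) = linePt 0 by
        rw [lineInf, linePt, Projectivization.PGL.mk_smul_mk, Projectivization.mk_eq_mk_iff']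
        refine ⟨1, ?_⟩
        ext i
        fin_cases i <;> simp [Units.smul_def, Matrix.GeneralLinearGroup.mkOfDetNeZero,
          Matrix.smul_eq_mulVec, Matrix.mulVec, dotProduct, Fin.sum_univ_two], hιp, hsa]
      rfl
    · by_cases ht : t = 0
      · subst ht
        rw [show Matrix.ProjGenLinGroup.mk (Matrix.GeneralLinearGroup.mkOfDetNeZero !![(0 : ZMod p), e; 1, 0] hdet) •
            (linePt 0 : ℙ (ZMod p) (Fin 2 → ZMod p)) = lineInf by
          rw [lineInf, linePt, Projectivization.PGL.mk_smul_mk, Projectivization.mk_eq_mk_iff']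
          refine ⟨e, ?_⟩
          ext i
          fin_cases i <;> simp [Units.smul_def, Matrix.GeneralLinearGroup.mkOfDetNeZero,
            Matrix.smul_eq_mulVec, Matrix.mulVec, dotProduct, Fin.sum_univ_two], hιi, ← hsb]
        rfl
      · rw [show Matrix.ProjGenLinGroup.mk (Matrix.GeneralLinearGroup.mkOfDetNeZero !![(0 : ZMod p), e; 1, 0] hdet) •
            (linePt t : ℙ (ZMod p) (Fin 2 → ZMod p)) = linePt (e / t) by
          rw [linePt, linePt, Projectivization.PGL.mk_smul_mk, Projectivization.mk_eq_mk_iff']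
          refine ⟨t, ?_⟩
          ext i
          fin_cases i <;> simp [Units.smul_def, Matrix.GeneralLinearGroup.mkOfDetNeZero,
            Matrix.smul_eq_mulVec, Matrix.mulVec, dotProduct, Fin.sum_univ_two] <;>
            field_simp, hιp, hs t ht]
  have hfix : ∀ g : G, g • Fr.a = Fr.a → g ∈ S := by
    intro g hg
    obtain ⟨m, hm⟩ := Fr.pt_surj (g • Fr.b) fun e' => Fr.a_ne_b (MulAction.injective g (hg.trans e'.symm))
    have h1 : (Fr.tr m)⁻¹ * g ∈ S := hH _ (Fr.mem_H.mpr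
      ⟨by rw [mul_smul, hg, inv_smul_eq_iff, Fr.tr_a],
        by rw [mul_smul, ← hm, inv_smul_eq_iff, Frame.b, Fr.tr_pt, zero_add]⟩)
    simpa using S.mul_mem (hK m) h1
  have htop : ∀ g, g ∈ S := by
    intro g
    by_cases hg : g • Fr.a = Fr.a
    · exact hfix g hg
    obtain ⟨m, hm⟩ := Fr.pt_surj (g • Fr.a) hg
    have h1 : (Fr.tr m * s)⁻¹ * g ∈ S := hfix _ (by
      rw [mul_smul, inv_smul_eq_iff, mul_smul, hsa, Frame.b, Fr.tr_pt, zero_add, hm])
    simpa [mul_assoc] using S.mul_mem (S.mul_mem (hK m) hsS) h1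
  obtain ⟨-, hpgl⟩ := CfsgLib.Classical.pgl_two_sharply_three_transitive (F := ZMod p)
  have huniq : ∀ g u v, Comp g u → Comp g v → u = v := by
    intro g u v hu hv
    have key : ∀ x : ℙ (ZMod p) (Fin 2 → ZMod p), (v⁻¹ * u) • x = x := fun x => by
      rw [mul_smul, inv_smul_eq_iff]; exact hιinj ((hu x).symm.trans (hv x))
    exact (inv_mul_eq_one.mp (hpgl _ lineInf (linePt 0) (linePt 1) (lineInf_ne_linePt 0)
      (lineInf_ne_linePt 1) (fun e => zero_ne_one (linePt_inj e)) (key _) (key _) (key _))).symm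
  choose Φ hΦR hΦ using htop
  have hΦmul : ∀ g h, Φ (g * h) = Φ g * Φ h := fun g h =>
    huniq _ _ _ (hΦ _) (hCmul g h _ _ (hΦ g) (hΦ h))
  let f : G →* R := MonoidHom.mk' (fun g => ⟨Φ g, hΦR g⟩) fun g h => Subtype.ext (hΦmul g h)
  have hf : Function.Injective f := fun g h e' => eq_of_smul_eq_smul fun y : α => by
    obtain ⟨x, rfl⟩ := hιsurj y
    rw [hΦ g x, hΦ h x, show Φ g = Φ h from congrArg Subtype.val e']
  have hcard : Nat.card G = Nat.card R := by
    rw [← Nat.card_congr (MonoidHom.ofInjective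
      (Matrix.ProjectiveSpecialLinearGroup.toPGL_injective (n := Fin 2) (R := ZMod p))).toEquiv, hG]
    have h := gcd_mul_card_PSL (F := ZMod p) (ZMod.card p)
    have h2 : Nat.gcd 2 (p - 1) = 2 := Nat.gcd_eq_left ⟨d, hd.symm⟩
    rw [h2, ← hd] at h
    have h3 : p * (2 * d * (p + 1)) = 2 * ((p + 1) * p * d) := by ring
    omega
  exact ⟨(MulEquiv.ofBijective f (hf.bijective_of_nat_card_le hcard.ge)).trans
    (MonoidHom.ofInjective
      (Matrix.ProjectiveSpecialLinearGroup.toPGL_injective (n := Fin 2) (R := ZMod p))).symm⟩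

theorem inversion_odd [Finite G] [IsPretransitive G α] (Fr : Frame G α p d) (hα : Nat.card α = p + 1)
    (hG : Nat.card G = (p + 1) * p * d) (hd : 2 * d = p - 1) (hodd : Odd d)
    (hinv : ∀ s : G, s • Fr.a = Fr.b → s • Fr.b = Fr.a → ∀ h ∈ Fr.H, s * h * s⁻¹ = h⁻¹) :
    ∃ (s : G) (e : ZMod p), s • Fr.a = Fr.b ∧ s • Fr.b = Fr.a ∧
      (∀ x, x ≠ 0 → s • Fr.pt x = Fr.pt (e / x)) ∧ IsSquare (-e) ∧ e ≠ 0 := by
  obtain ⟨s, hsa, hsb⟩ := is_two_pretransitive_iff.mp Fr.two_pretransitive Fr.a_ne_b Fr.a_ne_b.symm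
  have hmem : s * s ∈ Fr.H := Fr.mem_H.mpr ⟨by rw [mul_smul, hsa, hsb], by rw [mul_smul, hsb, hsa]⟩
  have hs2 : s * s = 1 := by
    have h1 := hinv s hsa hsb _ hmem
    rw [← mul_assoc, mul_inv_cancel_right] at h1
    have h2 : (⟨_, hmem⟩ : Fr.H) ^ 2 = 1 := Subtype.ext (by
      show (s * s) ^ 2 = 1
      rw [sq]; nth_rewrite 1 [h1]; exact inv_mul_cancel _)
    have h3 : orderOf (⟨_, hmem⟩ : Fr.H) = 1 := Nat.eq_one_of_dvd_coprimes
      ((Nat.prime_two.coprime_iff_not_dvd).mpr hodd.not_two_dvd_nat)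
      (orderOf_dvd_of_pow_eq_one h2) (orderOf_dvd_of_pow_eq_one (pow_d Fr _))
    exact congrArg Subtype.val (orderOf_eq_one_iff.mp h3)
  have hp2 : 3 ≤ p := by
    have := hodd.pos
    omega
  have hfree : ∀ y : α, s • y ≠ y := by
    intro y hy
    have h1 : orderOf (⟨s, hy⟩ : stabilizer G y) ∣ 2 := orderOf_dvd_of_pow_eq_one (Subtype.ext (by
      show s ^ 2 = 1; rw [sq, hs2]))
    have h2 : Nat.card (stabilizer G y) = p * d := by
      have h := (stabilizer G y).index_mul_card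
      rw [index_stabilizer_of_transitive G y, hα, hG, mul_assoc] at h
      exact Nat.eq_of_mul_eq_mul_left (by omega) h
    have h3 : orderOf (⟨s, hy⟩ : stabilizer G y) ∣ p * d := h2 ▸ orderOf_dvd_natCard _
    have hpo : Odd (p * d) := ((Fact.out : p.Prime).odd_of_ne_two (by omega)).mul hodd
    have h4 := Nat.eq_one_of_dvd_coprimes
      ((Nat.prime_two.coprime_iff_not_dvd).mpr hpo.not_two_dvd_nat) h1 h3
    have h5 : s = 1 := congrArg Subtype.val (orderOf_eq_one_iff.mp h4)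
    exact Fr.a_ne_b (by rw [← hsa, h5, one_smul])
  obtain ⟨e, he⟩ := Fr.pt_surj (s • Fr.pt 1) fun h => by
    rw [← hsb] at h
    exact one_ne_zero (Fr.pt_inj (MulAction.injective s h))
  have he0 : e ≠ 0 := by
    rintro rfl
    exact Fr.pt_ne 1 (MulAction.injective s (he.symm.trans hsa.symm))
  have hscale := fun {t : (ZMod p)ˣ} (ht : t ∈ Fr.mult.range) {x y : ZMod p} =>
    Fr.mem_mult_range_of_inverted hsa hsb (hinv s hsa hsb) ht (x := x) (y := y)
  have hneg : (Units.mk0 (-e) (neg_ne_zero.mpr he0)) ^ d = 1 := by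
    refine Units.ext ?_
    rw [Units.val_pow_eq_pow_val, Units.val_mk0, hodd.neg_pow, Units.val_one]
    have hsq : (e ^ d) ^ 2 = 1 := by rw [← pow_mul, mul_comm, hd, ZMod.pow_card_sub_one_eq_one he0]
    rcases sq_eq_one_iff.mp hsq with h | h
    swap
    · rw [h, neg_neg]
    exfalso
    obtain ⟨k, hk⟩ := range_of_pow_d Fr (t := Units.mk0 e he0) (Units.ext (by simpa using h))
    obtain ⟨j, hj⟩ := hodd
    have hkc : k ^ (j + 1) * k ^ (j + 1) = k := by
      rw [← pow_add, show j + 1 + (j + 1) = d + 1 by omega, pow_succ,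
        pow_d Fr k, one_mul]
    have h1 := hscale ⟨k ^ (j + 1), rfl⟩ he.symm
    rw [mul_one] at h1
    refine hfree _ (h1.trans (congrArg Fr.pt ?_))
    rw [show e = ((Fr.mult k : (ZMod p)ˣ) : ZMod p) by rw [hk, Units.val_mk0], ← Units.val_mul]
    congr 1
    rw [inv_mul_eq_iff_eq_mul, ← map_mul, hkc]
  refine ⟨s, e, hsa, hsb, fun x hx => ?_, ?_, he0⟩
  · by_cases hxd : (Units.mk0 x hx) ^ d = 1
    · have h1 := hscale (range_of_pow_d Fr hxd) he.symm
      rw [mul_one, Units.val_inv_eq_inv_val, Units.val_mk0, inv_mul_eq_div] at h1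
      exact h1
    · have hxe : (Units.mk0 (x / e) (div_ne_zero hx he0)) ^ d = 1 := by
        refine Units.ext ?_
        rw [Units.val_pow_eq_pow_val, Units.val_mk0, div_pow, Units.val_one]
        have hsq : (x ^ d) ^ 2 = 1 := by rw [← pow_mul, mul_comm, hd, ZMod.pow_card_sub_one_eq_one hx]
        have hxm : x ^ d = -1 := (sq_eq_one_iff.mp hsq).resolve_left fun h => hxd (Units.ext (by simpa using h))
        have hem : e ^ d = -1 := by
          have h := congrArg Units.val hneg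
          rw [Units.val_pow_eq_pow_val, Units.val_mk0, hodd.neg_pow, Units.val_one] at h
          rw [← neg_neg (e ^ d), h]
        rw [hxm, hem, div_self (neg_ne_zero.mpr one_ne_zero)]
      have hse : s • Fr.pt e = Fr.pt 1 := by rw [he, ← mul_smul, hs2, one_smul]
      have h1 := hscale (range_of_pow_d Fr hxe) hse
      rw [Units.val_inv_eq_inv_val, Units.val_mk0, div_mul_cancel₀ x he0, mul_one, inv_div] at h1
      exact h1
  · exact isSquare_of_range Fr hd (range_of_pow_d Fr hneg)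

theorem even_case [Finite G] [IsPretransitive G α] (Fr : Frame G α p d) (hα : Nat.card α = p + 1)
    (heven : 2 ∣ d) :
    d = p - 1 ∨ (2 * d = p - 1 ∧ ∃ (s : G) (e : ZMod p), s • Fr.a = Fr.b ∧ s • Fr.b = Fr.a ∧
      (∀ x, x ≠ 0 → s • Fr.pt x = Fr.pt (e / x)) ∧ IsSquare (-e) ∧ e ≠ 0) := by
  classical
  haveI : Fact (Nat.Prime 2) := ⟨Nat.prime_two⟩
  haveI : Finite α := Nat.finite_of_card_ne_zero (by omega)
  haveI := Fintype.ofFinite α
  haveI := Fintype.ofFinite G
  have h2pt : ∀ {w x y z : α}, w ≠ x → y ≠ z → ∃ g : G, g • w = y ∧ g • x = z :=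
    is_two_pretransitive_iff.mp Fr.two_pretransitive
  obtain ⟨z, hz⟩ := exists_prime_orderOf_dvd_card' (G := Fr.H) 2 (Fr.card_H.symm ▸ heven)
  have hz1 : z ≠ 1 := fun h => by rw [h, orderOf_one] at hz; exact absurd hz (by norm_num)
  have hzz : (z : G) * (z : G) = 1 :=
    congrArg Subtype.val (show z * z = 1 by rw [← sq, ← hz]; exact pow_orderOf_eq_one z)
  have hzm : (Fr.mult z : ZMod p) = -1 := by
    have h1 : (Fr.mult z : ZMod p) ^ 2 = 1 := by
      rw [← Units.val_pow_eq_pow_val, ← map_pow, ← hz, pow_orderOf_eq_one, map_one, Units.val_one]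
    exact (sq_eq_one_iff.mp h1).resolve_left fun h => hz1 (Fr.mult_eq_one.mp (Units.ext h))
  have hzpt : ∀ x, (z : G) • Fr.pt x = Fr.pt (-x) := fun x => by rw [Fr.smul_H, hzm, neg_one_mul]
  set Cl := Finset.univ.filter fun x : G => IsConj (z : G) x with hCl
  have hmemCl : ∀ {x}, x ∈ Cl ↔ IsConj (z : G) x := fun {x} => by simp [hCl]
  have hinvol : ∀ x ∈ Cl, x * x = 1 := fun x hx => by
    obtain ⟨c, rfl⟩ := isConj_iff.mp (hmemCl.mp hx)
    rw [conj_mul, hzz, mul_one, mul_inv_cancel]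
  have hfixset : ∀ x ∈ Cl, ∃ c c' : α, c ≠ c' ∧ ∀ y, x • y = y ↔ y = c ∨ y = c' := by
    intro x hx
    obtain ⟨t, rfl⟩ := isConj_iff.mp (hmemCl.mp hx)
    refine ⟨t • Fr.a, t • Fr.b, fun h => Fr.a_ne_b (MulAction.injective t h), fun y => ⟨fun hy => ?_, ?_⟩⟩
    · have h1 : (z : G) • (t⁻¹ • y) = t⁻¹ • y := by
        rw [eq_inv_smul_iff, ← mul_smul, ← mul_smul, hy]
      exact (Fr.fixed_H hz1 h1).imp (fun e => inv_smul_eq_iff.mp e) (fun e => inv_smul_eq_iff.mp e)
    · rintro (rfl | rfl)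
      · rw [mul_smul, inv_smul_smul, mul_smul, (Fr.mem_H.mp z.2).1]
      · rw [mul_smul, inv_smul_smul, mul_smul, (Fr.mem_H.mp z.2).2]
  have hfixcard : ∀ x ∈ Cl, (Finset.univ.filter fun y : α => x • y = y).card = 2 := by
    intro x hx
    obtain ⟨c, c', hne, hiff⟩ := hfixset x hx
    rw [show (Finset.univ.filter fun y : α => x • y = y) = {c, c'} by ext y; simp [hiff],
      Finset.card_pair hne]
  have huniq : ∀ x ∈ Cl, ∀ x' ∈ Cl, ∀ c c' : α, c ≠ c' → x • c = c → x • c' = c' → x' • c = c →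
      x' • c' = c' → x = x' := by
    intro x hx x' hx' c c' hne h1 h2 h1' h2'
    obtain ⟨t, t1, t2⟩ := h2pt hne Fr.a_ne_b
    have hm : ∀ y, y • c = c → y • c' = c' → t * y * t⁻¹ ∈ Fr.H := fun y e1 e2 =>
      Fr.mem_H.mpr ⟨by rw [← t1, mul_smul, inv_smul_smul, mul_smul, e1],
        by rw [← t2, mul_smul, inv_smul_smul, mul_smul, e2]⟩
    have hval : ∀ y ∈ Cl, ∀ hy : t * y * t⁻¹ ∈ Fr.H, Fr.mult ⟨_, hy⟩ = Fr.mult z := by
      intro y hy hy'
      refine Units.ext ?_
      have hsq : (⟨_, hy'⟩ : Fr.H) ^ 2 = 1 := Subtype.ext (by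
        show (t * y * t⁻¹) ^ 2 = 1
        rw [sq, conj_mul, hinvol y hy, mul_one, mul_inv_cancel])
      have h : (Fr.mult ⟨_, hy'⟩ : ZMod p) ^ 2 = 1 := by
        rw [← Units.val_pow_eq_pow_val, ← map_pow, hsq, map_one, Units.val_one]
      rw [hzm]
      refine (sq_eq_one_iff.mp h).resolve_left fun h' => ?_
      have h4 : t * y * t⁻¹ = 1 := congrArg Subtype.val (Fr.mult_eq_one.mp (Units.ext h'))
      rw [conj_eq_one_iff] at h4
      rw [h4] at hy
      exact hz1 (Subtype.ext ((isConj_one_left).mp (hmemCl.mp hy)))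
    have h5 : t * x * t⁻¹ = t * x' * t⁻¹ := congrArg Subtype.val
      (Fr.mult_injective ((hval x hx (hm x h1 h2)).trans (hval x' hx' (hm x' h1' h2')).symm))
    simpa using h5
  -- twice the class is the number of ordered pairs
  set OP := (Finset.univ : Finset (α × α)).filter fun q => q.1 ≠ q.2 with hOP
  have hOPcard : OP.card = (p + 1) * p := by
    rw [show OP = (Finset.univ : Finset α).offDiag by ext q; simp [hOP], Finset.offDiag_card,
      Finset.card_univ, ← Nat.card_eq_fintype_card, hα]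
    rw [← Nat.mul_sub_one, Nat.add_sub_cancel]
  have hzfix : ∀ t : G, (t * (z : G) * t⁻¹) • (t • Fr.a) = t • Fr.a ∧
      (t * (z : G) * t⁻¹) • (t • Fr.b) = t • Fr.b := fun t => by
    constructor
    · rw [mul_smul, inv_smul_smul, mul_smul, (Fr.mem_H.mp z.2).1]
    · rw [mul_smul, inv_smul_smul, mul_smul, (Fr.mem_H.mp z.2).2]
  have hClcard : 2 * Cl.card = (p + 1) * p := by
    rw [← hOPcard]
    refine Eq.trans ?_ (Finset.card_eq_sum_card_fiberwise (t := Cl)
      (f := fun q : α × α => if h : q.1 ≠ q.2 then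
        (h2pt Fr.a_ne_b h).choose * (z : G) * (h2pt Fr.a_ne_b h).choose⁻¹ else (z : G)) ?_).symm
    · rw [mul_comm, ← smul_eq_mul, ← Finset.sum_const]
      refine Finset.sum_congr rfl fun x hx => ?_
      obtain ⟨c, c', hne, hiff⟩ := hfixset x hx
      refine (Eq.trans ?_ (Finset.card_pair
        (show ((c, c') : α × α) ≠ (c', c) from fun h => hne (Prod.ext_iff.mp h).1))).symm
      congr 1
      ext ⟨y, y'⟩
      simp only [hOP, Finset.mem_filter, Finset.mem_univ, true_and, Finset.mem_insert,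
        Finset.mem_singleton, Prod.mk.injEq]
      constructor
      · rintro ⟨hy, h⟩
        rw [dif_pos hy] at h
        obtain ⟨t1, t2⟩ := (h2pt Fr.a_ne_b hy).choose_spec
        have e1 := (hzfix (h2pt Fr.a_ne_b hy).choose).1
        have e2 := (hzfix (h2pt Fr.a_ne_b hy).choose).2
        rw [t1, h] at e1
        rw [t2, h] at e2
        rcases (hiff y).mp e1 with r1 | r1 <;> rcases (hiff y').mp e2 with r2 | r2
        · exact absurd (r1.trans r2.symm) hy
        · exact Or.inl ⟨r1, r2⟩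
        · exact Or.inr ⟨r1, r2⟩
        · exact absurd (r1.trans r2.symm) hy
      · have key : ∀ y y' : α, y ≠ y' → x • y = y → x • y' = y' → ∀ hy : y ≠ y',
            (h2pt Fr.a_ne_b hy).choose * (z : G) * (h2pt Fr.a_ne_b hy).choose⁻¹ = x := by
          intro y y' hne' e1 e2 hy
          obtain ⟨t1, t2⟩ := (h2pt Fr.a_ne_b hy).choose_spec
          refine huniq _ (hmemCl.mpr (isConj_iff.mpr ⟨_, rfl⟩)) x hx y y' hne' ?_ ?_ e1 e2
          · have h := (hzfix (h2pt Fr.a_ne_b hy).choose).1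
            rwa [t1] at h
          · have h := (hzfix (h2pt Fr.a_ne_b hy).choose).2
            rwa [t2] at h
        rintro (⟨rfl, rfl⟩ | ⟨rfl, rfl⟩)
        · exact ⟨hne, by rw [dif_pos hne]; exact key _ _ hne ((hiff _).mpr (Or.inl rfl)) ((hiff _).mpr (Or.inr rfl)) hne⟩
        · exact ⟨hne.symm, by
            rw [dif_pos hne.symm]
            exact key _ _ hne.symm ((hiff _).mpr (Or.inr rfl)) ((hiff _).mpr (Or.inl rfl)) hne.symm⟩
    · intro q hq
      have hq' : q.1 ≠ q.2 := (Finset.mem_filter.mp hq).2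
      simp only [dif_pos hq']
      exact hmemCl.mpr (isConj_iff.mpr ⟨_, rfl⟩)
  -- the moved incidences
  set T := (Cl ×ˢ (Finset.univ : Finset α)).filter fun q => q.1 • q.2 ≠ q.2 with hT
  have hTcard : T.card = Cl.card * (p - 1) := by
    rw [hT, Finset.card_filter, Finset.sum_product, ← smul_eq_mul, ← Finset.sum_const]
    refine Finset.sum_congr rfl fun x hx => ?_
    rw [← Finset.card_filter, Finset.filter_not, Finset.card_sdiff_of_subset (Finset.filter_subset _ _),
      hfixcard x hx, Finset.card_univ, ← Nat.card_eq_fintype_card, hα]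
    omega
  let W : α × α → Finset G := fun q => Cl.filter fun x => x • q.1 = q.2
  have hWle : ∀ q ∈ OP, (W q).card ≤ d := by
    intro q hq
    have hq' : q.1 ≠ q.2 := (Finset.mem_filter.mp hq).2
    obtain ⟨t, t1, t2⟩ := h2pt hq' Fr.a_ne_b
    rcases (W q).eq_empty_or_nonempty with h | ⟨x0, hx0⟩
    · rw [h]; exact Nat.zero_le _
    have hcond : ∀ x ∈ W q, (t * x * t⁻¹) • Fr.a = Fr.b ∧ (t * x * t⁻¹) • Fr.b = Fr.a := by
      intro x hx
      obtain ⟨hxC, hxq⟩ := Finset.mem_filter.mp hx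
      refine ⟨by rw [← t1, mul_smul, inv_smul_smul, mul_smul, hxq, t2], ?_⟩
      rw [← t2, mul_smul, inv_smul_smul, mul_smul, ← t1]
      congr 1
      rw [← hxq, ← mul_smul, hinvol x hxC, one_smul]
    have hx0C := hcond x0 hx0
    rw [← Fr.card_H, ← Nat.card_eq_finsetCard (W q)]
    refine Nat.card_le_card_of_injective (fun x : W q => (⟨(t * x0 * t⁻¹)⁻¹ * (t * (x : G) * t⁻¹),
      Fr.mem_H.mpr ⟨by rw [mul_smul, (hcond _ x.2).1, inv_smul_eq_iff, hx0C.1],
        by rw [mul_smul, (hcond _ x.2).2, inv_smul_eq_iff, hx0C.2]⟩⟩ : Fr.H)) fun x y h => Subtype.ext ?_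
    simpa using congrArg Subtype.val h
  have hTsum : T.card = ∑ q ∈ OP, (W q).card := by
    rw [Finset.card_eq_sum_card_fiberwise (t := OP) (f := fun r : G × α => (r.2, r.1 • r.2))
      (fun r hr => by
        have := (Finset.mem_filter.mp hr).2
        simp [hOP, Ne.symm this])]
    refine Finset.sum_congr rfl fun q hq => ?_
    have hq' : q.1 ≠ q.2 := (Finset.mem_filter.mp hq).2
    refine Finset.card_bij (fun r _ => r.1) (fun r hr => ?_) (fun r hr r' hr' e => ?_) fun x hx => ?_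
    · obtain ⟨h1, h2⟩ := Finset.mem_filter.mp hr
      subst h2
      exact Finset.mem_filter.mpr ⟨(Finset.mem_product.mp (Finset.mem_filter.mp h1).1).1, rfl⟩
    · exact Prod.ext e (congrArg Prod.fst ((Finset.mem_filter.mp hr).2.trans (Finset.mem_filter.mp hr').2.symm))
    · obtain ⟨hxC, hxq⟩ := Finset.mem_filter.mp hx
      refine ⟨(x, q.1), Finset.mem_filter.mpr ⟨Finset.mem_filter.mpr
        ⟨Finset.mem_product.mpr ⟨hxC, Finset.mem_univ _⟩, ?_⟩, ?_⟩, rfl⟩
      · show x • q.1 ≠ q.1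
        rw [hxq]; exact hq'.symm
      · exact Prod.ext rfl hxq
  have hle : Cl.card * (p - 1) ≤ (p + 1) * p * d := by
    rw [← hTcard, hTsum, ← hOPcard, ← smul_eq_mul, ← Finset.sum_const]
    exact Finset.sum_le_sum hWle
  have hdvd := Fr.d_dvd
  have hppos : 0 < (p + 1) * p := Nat.mul_pos (by omega) (Fact.out : p.Prime).pos
  have h2d : p - 1 ≤ 2 * d := by
    have h : (p + 1) * p * (p - 1) ≤ (p + 1) * p * (2 * d) := by
      calc (p + 1) * p * (p - 1) = 2 * (Cl.card * (p - 1)) := by rw [← hClcard]; ring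
        _ ≤ 2 * ((p + 1) * p * d) := Nat.mul_le_mul_left 2 hle
        _ = (p + 1) * p * (2 * d) := by ring
    exact Nat.le_of_mul_le_mul_left h hppos
  obtain ⟨k, hk⟩ := hdvd
  by_cases hdp : d = p - 1
  · exact Or.inl hdp
  have hp2 : 2 ≤ p := (Fact.out : p.Prime).two_le
  have hk2 : k = 2 := by
    rcases k with _ | _ | _ | k
    · omega
    · exact absurd (by rw [hk]; simp) hdp
    · rfl
    · exfalso
      have h1 : d * 3 ≤ d * (k + 1 + 1 + 1) := Nat.mul_le_mul_left d (by omega)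
      omega
  have hd2 : 2 * d = p - 1 := by rw [hk, hk2, mul_comm]
  refine Or.inr ⟨hd2, ?_⟩
  have hWeq : ∀ q ∈ OP, (W q).card = d := by
    refine (Finset.sum_eq_sum_iff_of_le hWle).mp ?_
    rw [← hTsum, hTcard, Finset.sum_const, smul_eq_mul, hOPcard, ← hClcard, ← hd2]
    ring
  have hab : (Fr.a, Fr.b) ∈ OP := by simp [hOP, Fr.a_ne_b]
  set W0 := W (Fr.a, Fr.b) with hW0
  have hW0mem : ∀ x ∈ W0, x ∈ Cl ∧ x • Fr.a = Fr.b ∧ x • Fr.b = Fr.a := fun x hx => by
    obtain ⟨h1, h2⟩ := Finset.mem_filter.mp hx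
    have h2' : x • Fr.a = Fr.b := h2
    exact ⟨h1, h2', by rw [← h2', ← mul_smul, hinvol x h1, one_smul]⟩
  have hcover : ∀ y, y ≠ Fr.a → y ≠ Fr.b → ∃ x ∈ W0, x • y = y := by
    have hdisj : Set.PairwiseDisjoint (W0 : Set G) fun x => Finset.univ.filter fun y : α => x • y = y := by
      intro x hx x' hx' hne
      refine Finset.disjoint_left.mpr fun y hy hy' => hne ?_
      simp only [Finset.mem_filter, Finset.mem_univ, true_and] at hy hy'
      obtain ⟨-, xa, xb⟩ := hW0mem x hx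
      obtain ⟨hxC', xa', xb'⟩ := hW0mem x' hx'
      have hya : y ≠ Fr.a := fun e => Fr.a_ne_b (by rw [← xa, ← e, hy])
      have hyb : y ≠ Fr.b := fun e => Fr.a_ne_b (by rw [← xb, ← e, hy])
      exact (inv_mul_eq_one.mp (Fr.eq_one_of_fix (g := x'⁻¹ * x) Fr.a_ne_b hya.symm hyb.symm
        (by rw [mul_smul, xa, inv_smul_eq_iff, xa']) (by rw [mul_smul, xb, inv_smul_eq_iff, xb'])
        (by rw [mul_smul, hy, inv_smul_eq_iff, hy']))).symm
    have hU : W0.biUnion (fun x => Finset.univ.filter fun y : α => x • y = y) =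
        (Finset.univ.erase Fr.a).erase Fr.b := by
      refine Finset.eq_of_subset_of_card_le ?_ ?_
      · intro y hy
        obtain ⟨x, hx, hxy⟩ := Finset.mem_biUnion.mp hy
        simp only [Finset.mem_filter, Finset.mem_univ, true_and] at hxy
        obtain ⟨-, xa, xb⟩ := hW0mem x hx
        refine Finset.mem_erase.mpr ⟨fun e => Fr.a_ne_b ?_, Finset.mem_erase.mpr ⟨fun e => Fr.a_ne_b ?_, Finset.mem_univ _⟩⟩
        · rw [← xb, ← e, hxy]
        · rw [← xa, ← e, hxy]
      · rw [Finset.card_biUnion hdisj, Finset.sum_congr rfl fun x hx => hfixcard x (hW0mem x hx).1,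
          Finset.sum_const, hWeq _ hab, Finset.card_erase_of_mem (Finset.mem_erase.mpr
            ⟨Fr.a_ne_b.symm, Finset.mem_univ _⟩), Finset.card_erase_of_mem (Finset.mem_univ _),
          Finset.card_univ, ← Nat.card_eq_fintype_card, hα, smul_eq_mul]
        omega
    intro y h1 h2
    have hy : y ∈ (Finset.univ.erase Fr.a).erase Fr.b :=
      Finset.mem_erase.mpr ⟨h2, Finset.mem_erase.mpr ⟨h1, Finset.mem_univ _⟩⟩
    rw [← hU] at hy
    obtain ⟨x, hx, hxy⟩ := Finset.mem_biUnion.mp hy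
    exact ⟨x, hx, (Finset.mem_filter.mp hxy).2⟩
  have hp3 : 3 ≤ p := by
    obtain ⟨i, rfl⟩ := heven
    have h : 0 < Nat.card Fr.H := Nat.card_pos
    rw [Fr.card_H] at h
    omega
  have h1b : Fr.pt 1 ≠ Fr.b := fun e => one_ne_zero (Fr.pt_inj e)
  obtain ⟨s, hsW, hs1⟩ := hcover _ (Fr.pt_ne 1) h1b
  obtain ⟨hsC, hsa, hsb⟩ := hW0mem s hsW
  have hs2 := hinvol s hsC
  have hinv : ∀ h ∈ Fr.H, s * h * s⁻¹ = h⁻¹ := by
    have hall : ∀ h ∈ Fr.H, h * s ∈ W0 := by
      let f : W0 → Fr.H := fun x => ⟨(x : G) * s⁻¹, Fr.mem_H.mpr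
        ⟨by rw [mul_smul, inv_smul_eq_iff.mpr hsb.symm, (hW0mem _ x.2).2.2],
          by rw [mul_smul, inv_smul_eq_iff.mpr hsa.symm, (hW0mem _ x.2).2.1]⟩⟩
      have hf : Function.Injective f := fun x y h => Subtype.ext (mul_right_cancel (congrArg Subtype.val h))
      have hb : Function.Bijective f := hf.bijective_of_nat_card_le
        (by rw [Nat.card_eq_finsetCard, hWeq _ hab, Fr.card_H])
      intro h hh
      obtain ⟨x, hx⟩ := hb.2 ⟨h, hh⟩
      have hx' : (x : G) * s⁻¹ = h := congrArg Subtype.val hx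
      rw [← hx', inv_mul_cancel_right]
      exact x.2
    intro h hh
    have h1 := hinvol _ (hW0mem _ (hall h hh)).1
    rw [inv_eq_of_mul_eq_one_right hs2, eq_inv_iff_mul_eq_one]
    calc s * h * s * h = h⁻¹ * (h * s * (h * s)) * h := by group
      _ = 1 := by rw [h1]; group
  have hscale := fun {t : (ZMod p)ˣ} (ht : t ∈ Fr.mult.range) {x y : ZMod p} =>
    Fr.mem_mult_range_of_inverted hsa hsb hinv ht (x := x) (y := y)
  have hk1 : ∀ x, ∀ hx : x ≠ 0, (Units.mk0 x hx) ^ d = 1 → s • Fr.pt x = Fr.pt x⁻¹ := by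
    intro x hx hxd
    have h1 := hscale (range_of_pow_d Fr hxd) hs1
    rw [mul_one, Units.val_inv_eq_inv_val, Units.val_mk0, mul_one] at h1
    exact h1
  have hneg : (-1 : (ZMod p)ˣ) ^ d = 1 := (even_iff_two_dvd.mpr heven).neg_one_pow
  obtain ⟨y, hy0, hyd, hw0, hwd⟩ : ∃ y : ZMod p, ∃ hy : y ≠ 0, (Units.mk0 y hy) ^ d = 1 ∧
      ∃ hw : y + 1 ≠ 0, (Units.mk0 (y + 1) hw) ^ d ≠ 1 := by
    by_contra hcon
    push Not at hcon
    have hall : ∀ n : ℕ, ∀ hn : (n : ZMod p) ≠ 0, (Units.mk0 (n : ZMod p) hn) ^ d = 1 := by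
      intro n
      induction n with
      | zero => intro hn; exact absurd Nat.cast_zero hn
      | succ n ih =>
        intro hn
        have key : ((n + 1 : ℕ) : ZMod p) ^ d = 1 := by
          by_cases h0 : (n : ZMod p) = 0
          · rw [Nat.cast_succ, h0, zero_add, one_pow]
          · have hw : (n : ZMod p) + 1 ≠ 0 := by rw [← Nat.cast_succ]; exact hn
            have h := congrArg Units.val (hcon _ h0 (ih h0) hw)
            rw [Units.val_pow_eq_pow_val, Units.val_mk0, Units.val_one] at h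
            rw [Nat.cast_succ, h]
        exact Units.ext (by rw [Units.val_pow_eq_pow_val, Units.val_mk0, key, Units.val_one])
    have hle : Fintype.card (ZMod p)ˣ ≤ d := by
      rw [← Fr.card_H, Nat.card_congr (MonoidHom.ofInjective Fr.mult_injective).toEquiv,
        ← Nat.card_eq_fintype_card]
      refine Nat.card_le_card_of_injective (fun t => (⟨t, range_of_pow_d Fr ?_⟩ : Fr.mult.range))
        fun _ _ h => congrArg Subtype.val h
      have := hall (t : ZMod p).val (by rw [ZMod.natCast_zmod_val]; exact t.ne_zero)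
      have h' := congrArg Units.val this
      rw [Units.val_pow_eq_pow_val, Units.val_mk0, ZMod.natCast_zmod_val, Units.val_one] at h'
      exact Units.ext (by rw [Units.val_pow_eq_pow_val, h', Units.val_one])
    rw [ZMod.card_units] at hle
    omega
  obtain ⟨v, hv⟩ := Fr.pt_surj (s • Fr.pt (y + 1)) fun h => hw0 (Fr.pt_inj (show Fr.pt (y + 1) = Fr.b from
    MulAction.injective s (h.trans hsb.symm)))
  set r := Fr.tr 1 * (z : G) with hr
  have hrpt : ∀ x, r • Fr.pt x = Fr.pt (1 - x) := fun x => by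
    rw [hr, mul_smul, hzpt, Fr.tr_pt, neg_add_eq_sub]
  have hra : r • Fr.a = Fr.a := by rw [hr, mul_smul, (Fr.mem_H.mp z.2).1, Fr.tr_a]
  have hrb : r • Fr.b = Fr.pt 1 := by rw [Frame.b, hrpt, sub_zero]
  have hrc : r • Fr.pt 1 = Fr.b := by rw [hrpt, sub_self]; rfl
  have e1 : (r * s) • Fr.a = Fr.pt 1 := by rw [mul_smul, hsa, hrb]
  have e2 : (r * s) • Fr.pt 1 = Fr.b := by rw [mul_smul, hs1, hrc]
  have e3 : (r * s) • Fr.b = Fr.a := by rw [mul_smul, hsb, hra]
  have hrs : (r * s) * ((r * s) * (r * s)) = 1 :=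
    Fr.eq_one_of_fix Fr.a_ne_b (Fr.pt_ne 1).symm h1b.symm
      (by rw [mul_smul (r * s) (r * s * (r * s)), mul_smul (r * s) (r * s), e1, e2, e3])
      (by rw [mul_smul (r * s) (r * s * (r * s)), mul_smul (r * s) (r * s), e3, e1, e2])
      (by rw [mul_smul (r * s) (r * s * (r * s)), mul_smul (r * s) (r * s), e2, e3, e1])
  have hy : s • Fr.pt (-y) = Fr.pt (-y)⁻¹ := by
    refine hk1 _ (neg_ne_zero.mpr hy0) (Units.ext ?_)
    have h1 := congrArg Units.val hyd
    rw [Units.val_pow_eq_pow_val, Units.val_mk0, Units.val_one] at h1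
    rw [Units.val_pow_eq_pow_val, Units.val_mk0, (even_iff_two_dvd.mpr heven).neg_pow, h1, Units.val_one]
  have hstep : s • Fr.pt (1 - (-y)⁻¹) = Fr.pt (y * v) := by
    have h1 := hscale (Subgroup.inv_mem _ (range_of_pow_d Fr hyd)) hv.symm
    rw [Units.val_inv_eq_inv_val, inv_inv, Units.val_mk0] at h1
    rw [show (1 : ZMod p) - (-y)⁻¹ = y⁻¹ * (y + 1) by field_simp; ring]
    exact h1
  have h3 := congrArg (fun g : G => g • Fr.pt (-y)) hrs
  simp only [mul_smul, one_smul] at h3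
  rw [hy, hrpt, hstep, hrpt] at h3
  have h4 : s • Fr.pt (1 - y * v) = Fr.pt (y + 1) := by
    have h := congrArg (fun w => r • w) h3
    simp only [hrpt] at h
    have hr1 : ∀ w : α, r • r • w = w := fun w => by
      by_cases hw : w = Fr.a
      · rw [hw, hra, hra]
      · obtain ⟨x, rfl⟩ := Fr.pt_surj w hw
        rw [hrpt, hrpt, sub_sub_cancel]
    rw [hr1, sub_neg_eq_add, add_comm] at h
    exact h
  have h5 : v * (y + 1) = 1 := by
    have h := congrArg (fun w => s • w) h4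
    simp only [← mul_smul, hs2, one_smul] at h
    rw [← hv] at h
    have := Fr.pt_inj h
    linear_combination (-1 : ZMod p) * this
  have hv' : v = (y + 1)⁻¹ := eq_inv_of_mul_eq_one_left h5
  refine ⟨s, 1, hsa, hsb, fun x hx => ?_, ?_, one_ne_zero⟩
  · rw [one_div]
    by_cases hxd : (Units.mk0 x hx) ^ d = 1
    · exact hk1 x hx hxd
    · have hpow : ∀ u : ZMod p, ∀ hu : u ≠ 0, (Units.mk0 u hu) ^ d ≠ 1 → u ^ d = -1 := by
        intro u hu hne
        have hsq : (u ^ d) ^ 2 = 1 := by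
          rw [← pow_mul, mul_comm, hd2, ZMod.pow_card_sub_one_eq_one hu]
        exact (sq_eq_one_iff.mp hsq).resolve_left fun h => hne (Units.ext (by simpa using h))
      have hxw : (Units.mk0 (x / (y + 1)) (div_ne_zero hx hw0)) ^ d = 1 := by
        refine Units.ext ?_
        rw [Units.val_pow_eq_pow_val, Units.val_mk0, div_pow, hpow x hx hxd, hpow _ hw0 hwd,
          div_self (neg_ne_zero.mpr one_ne_zero), Units.val_one]
      have h1 := hscale (range_of_pow_d Fr hxw) hv.symm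
      rw [Units.val_inv_eq_inv_val, Units.val_mk0, div_mul_cancel₀ x hw0, hv', inv_div,
        div_mul_eq_mul_div, mul_inv_cancel₀ hw0, one_div] at h1
      exact h1
  · exact isSquare_of_range Fr hd2 (t := -1) (range_of_pow_d Fr hneg) |> fun h => by simpa using h

end CfsgLib.SmallGroups.PrimePlusOne
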