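import Mathlib

/-!
Coordinates for a transitive group of order `(p + 1) * p * d`, `d < p`, on `p + 1` points:
the point stabiliser acts on the other points as a group of affine maps of `ZMod p`.
-/

set_option autoImplicit false

namespace CfsgLib.SmallGroups.PrimePlusOne

open MulAction

/-- Affine coordinates around a point `a`. -/
structure Frame (G α : Type*) [Group G] [MulAction G α] (p d : ℕ) where
  a : α
  pt : ZMod p → α
  tr : ZMod p → G
  θ : stabilizer G a →* (ZMod p)ˣ
  pt_ne : ∀ x, pt x ≠ a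
  pt_inj : Function.Injective pt
  pt_surj : ∀ y, y ≠ a → ∃ x, pt x = y
  tr_a : ∀ m, tr m • a = a
  tr_pt : ∀ m x, tr m • pt x = pt (x + m)
  affine : ∀ (g : stabilizer G a) m, (g : G) • pt 0 = pt m →
    ∀ x, (g : G) • pt x = pt ((θ g : ZMod p) * x + m)
  card_stab : Nat.card ↥(stabilizer G a ⊓ stabilizer G (pt 0)) = d

theorem exists_frame {G α : Type*} [Group G] [Finite G] [MulAction G α] [Finite α]
    [FaithfulSMul G α] [IsPretransitive G α] {p d : ℕ} [Fact p.Prime]
    (hα : Nat.card α = p + 1) (hG : Nat.card G = (p + 1) * p * d) (hd : d < p) (a : α) :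
    ∃ Fr : Frame G α p d, Fr.a = a := by
  classical
  haveI := Fintype.ofFinite α
  have hp : p.Prime := Fact.out
  have hcard : Nat.card (stabilizer G a) = p * d := by
    have h1 := (stabilizer G a).index_mul_card
    rw [index_stabilizer_of_transitive G a, hα, hG, mul_assoc] at h1
    exact Nat.eq_of_mul_eq_mul_left (by omega) h1
  have hd0 : 0 < d := by
    rcases Nat.eq_zero_or_pos d with h | h
    · rw [h, mul_zero] at hG; exact absurd hG Nat.card_pos.ne'
    · exact h
  obtain ⟨P⟩ : Nonempty (Sylow p (stabilizer G a)) := inferInstance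
  have hPcard : Nat.card P = p := by
    rw [P.card_eq_multiplicity, hcard, Nat.factorization_mul hp.ne_zero hd0.ne', Finsupp.coe_add,
      Pi.add_apply, Nat.factorization_eq_zero_of_lt hd, hp.factorization_self, add_zero, pow_one]
  haveI hPn : (P : Subgroup (stabilizer G a)).Normal := by
    suffices h : Subsingleton (Sylow p (stabilizer G a)) from P.normal_of_subsingleton
    have h1 := Sylow.card_dvd_index P
    have h2 : (P : Subgroup (stabilizer G a)).index = d := by
      have := (P : Subgroup (stabilizer G a)).index_mul_card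
      rw [hPcard, hcard, mul_comm p] at this
      exact Nat.eq_of_mul_eq_mul_right hp.pos this
    rw [h2] at h1
    have h3 := card_sylow_modEq_one p (stabilizer G a)
    have h4 : Nat.card (Sylow p (stabilizer G a)) < p := lt_of_le_of_lt (Nat.le_of_dvd hd0 h1) hd
    have h5 : Nat.card (Sylow p (stabilizer G a)) = 1 := by
      rwa [Nat.ModEq, Nat.mod_eq_of_lt h4, Nat.one_mod_eq_one.mpr hp.one_lt.ne'] at h3
    exact (Nat.card_eq_one_iff_unique.mp h5).1
  obtain ⟨u', hu'⟩ := exists_prime_orderOf_dvd_card' (G := P) p (by rw [hPcard])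
  set u : G := ((u' : stabilizer G a) : G) with hu
  have hua : u • a = a := (u' : stabilizer G a).2
  have huo : orderOf u = p := by rw [hu, Subgroup.orderOf_coe, Subgroup.orderOf_coe, hu']
  have hPz : ∀ x ∈ (P : Subgroup (stabilizer G a)), ∃ i : ℕ, u ^ i = (x : G) := by
    intro x hx
    have hz : Subgroup.zpowers u' = ⊤ :=
      Subgroup.eq_top_of_card_eq _ (by rw [Nat.card_zpowers, hu', hPcard])
    have hmem : (⟨x, hx⟩ : P) ∈ Subgroup.zpowers u' := by rw [hz]; exact Subgroup.mem_top _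
    obtain ⟨i, hi⟩ := (isOfFinOrder_of_finite u').mem_powers_iff_mem_zpowers.mpr hmem
    exact ⟨i, by rw [hu, ← SubgroupClass.coe_pow, ← SubgroupClass.coe_pow]; exact congrArg (fun z : P => ((z : stabilizer G a) : G)) hi⟩
  let tr : ZMod p → G := fun m => u ^ m.val
  have htr0 : tr 0 = 1 := by simp [tr]
  have htr_cast : ∀ n : ℕ, tr (n : ZMod p) = u ^ n := fun n => by
    show u ^ (n : ZMod p).val = u ^ n
    rw [ZMod.val_natCast, ← pow_mod_orderOf u n, huo]
  have htr_add : ∀ m n, tr (m + n) = tr m * tr n := fun m n => by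
    show u ^ (m + n).val = u ^ m.val * u ^ n.val
    rw [ZMod.val_add, ← pow_add, ← pow_mod_orderOf u (m.val + n.val), huo]
  have htra : ∀ m, tr m • a = a := fun m => (stabilizer G a).pow_mem hua m.val
  have hu1 : u ≠ 1 := fun h => by rw [h, orderOf_one] at huo; exact hp.one_lt.ne huo
  obtain ⟨b, hb⟩ : ∃ b, u • b ≠ b := by
    by_contra! h
    exact hu1 (eq_of_smul_eq_smul fun y : α => by rw [h, one_smul])
  let pt : ZMod p → α := fun x => tr x • b
  have hba : b ≠ a := fun h => hb (by rw [h, hua])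
  have hfix : ∀ m, tr m • b = b → m = 0 := by
    intro m hm
    by_contra hne
    have h1 : ∀ n : ℕ, tr ((n : ZMod p) * m) • b = b := by
      intro n
      induction n with
      | zero => rw [Nat.cast_zero, zero_mul, htr0, one_smul]
      | succ n ih => rw [Nat.cast_succ, add_one_mul, htr_add, mul_smul, hm, ih]
    have h2 := h1 (m⁻¹ : ZMod p).val
    rw [ZMod.natCast_zmod_val, inv_mul_cancel₀ hne] at h2
    exact hb (by simpa [tr, ZMod.val_one] using h2)
  have hpt_inj : Function.Injective pt := by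
    intro x y h
    refine sub_eq_zero.mp (hfix _ ?_)
    have h' : tr x • b = tr y • b := h
    rw [sub_eq_neg_add, htr_add, mul_smul, h', ← mul_smul, ← htr_add, neg_add_cancel, htr0, one_smul]
  have hpt_ne : ∀ x, pt x ≠ a := fun x h =>
    hba (MulAction.injective (tr x) (h.trans (htra x).symm))
  have hpt_surj : ∀ y, y ≠ a → ∃ x, pt x = y := by
    intro y hy
    have hb' : Function.Bijective (fun x => (⟨pt x, hpt_ne x⟩ : {y : α // y ≠ a})) := by
      refine (Fintype.bijective_iff_injective_and_card _).mpr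
        ⟨fun x y h => hpt_inj (congrArg Subtype.val h), ?_⟩
      rw [ZMod.card, Fintype.card_subtype_compl, Fintype.card_subtype_eq, ← Nat.card_eq_fintype_card, hα]
      rfl
    obtain ⟨x, hx⟩ := hb'.2 ⟨y, hy⟩
    exact ⟨x, congrArg Subtype.val hx⟩
  have hconj : ∀ g : stabilizer G a, ∃ n : ZMod p, (g : G) * u * (g : G)⁻¹ = tr n := by
    intro g
    obtain ⟨i, hi⟩ := hPz _ (hPn.conj_mem _ u'.2 g)
    exact ⟨(i : ZMod p), by rw [htr_cast, hi]; rfl⟩
  choose n hn using hconj
  have hconjm : ∀ (g : stabilizer G a) (x : ZMod p), (g : G) * tr x * (g : G)⁻¹ = tr (n g * x) := by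
    intro g x
    have hk : ∀ k : ℕ, (g : G) * u ^ k * (g : G)⁻¹ = tr (n g * k) := by
      intro k
      induction k with
      | zero => simp [htr0]
      | succ k ih => rw [Nat.cast_succ, mul_add, mul_one, htr_add, ← ih, ← hn, pow_succ]; group
    have := hk x.val
    rwa [ZMod.natCast_zmod_val] at this
  have htr_inj : Function.Injective tr := fun x y h => hpt_inj (congrArg (· • b) h)
  have hn_mul : ∀ g h, n (g * h) = n g * n h := by
    intro g h
    refine htr_inj ?_
    rw [← hn, ← hconjm, ← hn, Subgroup.coe_mul]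
    group
  have hn_one : n 1 = 1 := htr_inj (by rw [← hn]; simp [tr, ZMod.val_one])
  let θ : stabilizer G a →* (ZMod p)ˣ := MonoidHom.toHomUnits
    { toFun := n, map_one' := hn_one, map_mul' := hn_mul }
  refine ⟨⟨a, pt, tr, θ, hpt_ne, hpt_inj, hpt_surj, htra,
    fun m x => by show tr m • tr x • b = tr (x + m) • b; rw [← mul_smul, ← htr_add, add_comm],
    fun g m hm x => ?_, ?_⟩, rfl⟩
  · show (g : G) • tr x • b = tr (n g * x + m) • b
    rw [show pt 0 = b by show tr 0 • b = b; rw [htr0, one_smul]] at hm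
    rw [htr_add, mul_smul, show tr m • b = (g : G) • b from hm.symm, ← hconjm, ← mul_smul, ← mul_smul,
      mul_assoc _ (g : G)⁻¹, inv_mul_cancel, mul_one]
  · rw [show pt 0 = b by show tr 0 • b = b; rw [htr0, one_smul]]
    have horb : MulAction.orbit (stabilizer G a) b = ({a}ᶜ : Set α) := by
      ext y
      refine ⟨?_, fun hy => ?_⟩
      · rintro ⟨g, rfl⟩ (h : (g : G) • b = a)
        exact hba (MulAction.injective (g : G) (h.trans (mem_stabilizer_iff.mp g.2).symm))
      · obtain ⟨x, hx⟩ := hpt_surj y hy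
        exact ⟨⟨tr x, htra x⟩, hx⟩
    have h1 := MulAction.index_stabilizer (stabilizer G a) b
    rw [horb, Set.ncard_compl, Set.ncard_singleton, hα, Nat.add_sub_cancel] at h1
    have hst : stabilizer (stabilizer G a) b = (stabilizer G b).subgroupOf (stabilizer G a) := rfl
    have h2 := (stabilizer (stabilizer G a) b).index_mul_card
    rw [h1, hcard] at h2
    have h3 : Nat.card (stabilizer (stabilizer G a) b) = Nat.card ↥(stabilizer G a ⊓ stabilizer G b) := by
      rw [hst, ← Subgroup.inf_subgroupOf_left]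
      exact Nat.card_congr (Subgroup.subgroupOfEquivOfLe inf_le_left).toEquiv
    rw [← h3]
    exact Nat.eq_of_mul_eq_mul_left hp.pos h2

namespace Frame

variable {G α : Type*} [Group G] [MulAction G α] {p d : ℕ}
variable (Fr : Frame G α p d)

/-- The second base point. -/
def b : α := Fr.pt 0

/-- The two point stabiliser. -/
def H : Subgroup G := stabilizer G Fr.a ⊓ stabilizer G Fr.b

theorem card_H : Nat.card Fr.H = d := Fr.card_stab

theorem a_ne_b : Fr.a ≠ Fr.b := (Fr.pt_ne 0).symm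

theorem mem_H {h : G} : h ∈ Fr.H ↔ h • Fr.a = Fr.a ∧ h • Fr.b = Fr.b := Iff.rfl

/-- The multiplier of an element of the two point stabiliser. -/
def mult : Fr.H →* (ZMod p)ˣ := Fr.θ.comp (Subgroup.inclusion inf_le_left)

theorem smul_H (h : Fr.H) (x : ZMod p) : (h : G) • Fr.pt x = Fr.pt ((Fr.mult h : ZMod p) * x) := by
  have := Fr.affine ⟨h, (Fr.mem_H.mp h.2).1⟩ 0 (Fr.mem_H.mp h.2).2 x
  rw [add_zero] at this
  exact this

theorem mult_injective [FaithfulSMul G α] : Function.Injective Fr.mult := by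
  intro g h hgh
  refine Subtype.ext (eq_of_smul_eq_smul fun y : α => ?_)
  by_cases hy : y = Fr.a
  · rw [hy, (Fr.mem_H.mp g.2).1, (Fr.mem_H.mp h.2).1]
  · obtain ⟨x, rfl⟩ := Fr.pt_surj y hy
    rw [Fr.smul_H, Fr.smul_H, hgh]

theorem mult_eq_one [FaithfulSMul G α] {h : Fr.H} : Fr.mult h = 1 ↔ h = 1 :=
  ⟨fun e => Fr.mult_injective (e.trans (map_one Fr.mult).symm), fun e => by rw [e, map_one]⟩

theorem fixed_H [Fact p.Prime] [FaithfulSMul G α] {h : Fr.H} (hne : h ≠ 1) {y : α}
    (hy : (h : G) • y = y) : y = Fr.a ∨ y = Fr.b := by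
  by_cases hya : y = Fr.a
  · exact Or.inl hya
  right
  obtain ⟨x, rfl⟩ := Fr.pt_surj y hya
  rw [Fr.smul_H] at hy
  have h1 : ((Fr.mult h : ZMod p) - 1) * x = 0 := by rw [sub_mul, one_mul, Fr.pt_inj hy, sub_self]
  rcases mul_eq_zero.mp h1 with h2 | h2
  · exact absurd (Fr.mult_eq_one.mp (Units.ext (sub_eq_zero.mp h2))) hne
  · rw [h2]; rfl

theorem commute_H [FaithfulSMul G α] (g h : G) (hg : g ∈ Fr.H) (hh : h ∈ Fr.H) : g * h = h * g :=
  congrArg Subtype.val (Fr.mult_injective (a₁ := ⟨g, hg⟩ * ⟨h, hh⟩) (a₂ := ⟨h, hh⟩ * ⟨g, hg⟩)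
    (by rw [map_mul, map_mul, mul_comm]))

include Fr in
theorem isCyclic_H [Fact p.Prime] [FaithfulSMul G α] : IsCyclic Fr.H :=
  isCyclic_of_injective Fr.mult Fr.mult_injective

include Fr in
theorem d_dvd [Fact p.Prime] [FaithfulSMul G α] : d ∣ p - 1 := by
  rw [← Fr.card_H, ← ZMod.card_units p, ← Nat.card_eq_fintype_card]
  exact Subgroup.card_dvd_of_injective Fr.mult Fr.mult_injective

theorem exists_H {t : (ZMod p)ˣ} (ht : t ∈ Fr.mult.range) :
    ∃ h : G, h ∈ Fr.H ∧ h • Fr.a = Fr.a ∧ ∀ x, h • Fr.pt x = Fr.pt ((t : ZMod p) * x) := by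
  obtain ⟨h, rfl⟩ := ht
  exact ⟨h, h.2, (Fr.mem_H.mp h.2).1, Fr.smul_H h⟩

include Fr in
theorem two_pretransitive [IsPretransitive G α] : IsMultiplyPretransitive G α 2 := by
  rw [is_two_pretransitive_iff]
  intro x y x' y' hxy hxy'
  have key : ∀ x y : α, x ≠ y → ∃ g : G, g • x = Fr.a ∧ g • y = Fr.b := by
    intro x y hxy
    obtain ⟨g, hg⟩ := exists_smul_eq G x Fr.a
    obtain ⟨m, hm⟩ := Fr.pt_surj (g • y) fun e => hxy (MulAction.injective g (hg.trans e.symm))
    refine ⟨(Fr.tr m)⁻¹ * g, by rw [mul_smul, hg, inv_smul_eq_iff, Fr.tr_a], ?_⟩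
    rw [mul_smul, ← hm, inv_smul_eq_iff, Frame.b, Fr.tr_pt, zero_add]
  obtain ⟨g, g1, g2⟩ := key x y hxy
  obtain ⟨g', g1', g2'⟩ := key x' y' hxy'
  exact ⟨g'⁻¹ * g, by rw [mul_smul, g1, ← g1', inv_smul_smul], by rw [mul_smul, g2, ← g2', inv_smul_smul]⟩

include Fr in
theorem eq_one_of_fix [Fact p.Prime] [FaithfulSMul G α] [IsPretransitive G α] {g : G} {x y z : α}
    (hxy : x ≠ y) (hxz : x ≠ z) (hyz : y ≠ z) (hx : g • x = x) (hy : g • y = y) (hz : g • z = z) :
    g = 1 := by
  haveI := Fr.two_pretransitive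
  obtain ⟨t, t1, t2⟩ := (is_two_pretransitive_iff.mp Fr.two_pretransitive) hxy Fr.a_ne_b
  have hmem : t * g * t⁻¹ ∈ Fr.H := Fr.mem_H.mpr
    ⟨by rw [← t1, mul_smul, inv_smul_smul, mul_smul, hx],
      by rw [← t2, mul_smul, inv_smul_smul, mul_smul, hy]⟩
  by_contra hne
  have hne' : (⟨_, hmem⟩ : Fr.H) ≠ 1 := fun e => hne (conj_eq_one_iff.mp (congrArg Subtype.val e))
  have h3 : (t * g * t⁻¹) • (t • z) = t • z := by rw [mul_smul, inv_smul_smul, mul_smul, hz]
  rcases Fr.fixed_H hne' h3 with h | h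
  · exact hxz (MulAction.injective t (t1.trans h.symm))
  · exact hyz (MulAction.injective t (t2.trans h.symm))

theorem conj_mem_H {s h : G} (hsa : s • Fr.a = Fr.b) (hsb : s • Fr.b = Fr.a) (hh : h ∈ Fr.H) :
    s * h * s⁻¹ ∈ Fr.H := by
  obtain ⟨ha, hb⟩ := Fr.mem_H.mp hh
  refine Fr.mem_H.mpr ⟨?_, ?_⟩
  · rw [mul_smul, mul_smul, inv_smul_eq_iff.mpr hsb.symm, hb, hsb]
  · rw [mul_smul, mul_smul, inv_smul_eq_iff.mpr hsa.symm, ha, hsa]

theorem mem_mult_range_of_inverted {s : G} (hsa : s • Fr.a = Fr.b) (hsb : s • Fr.b = Fr.a)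
    (hinv : ∀ h ∈ Fr.H, s * h * s⁻¹ = h⁻¹) {t : (ZMod p)ˣ} (ht : t ∈ Fr.mult.range)
    {x y : ZMod p} (hxy : s • Fr.pt x = Fr.pt y) :
    s • Fr.pt ((t : ZMod p) * x) = Fr.pt ((t⁻¹ : (ZMod p)ˣ) * y) := by
  obtain ⟨h, rfl⟩ := ht
  rw [← Fr.smul_H, ← map_inv, ← Fr.smul_H, Subgroup.coe_inv, ← hinv _ h.2, ← hxy]
  simp [mul_smul]

end Frame

end CfsgLib.SmallGroups.PrimePlusOne
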